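import Cfsg.Agent.H312.HT.Pack

/-!
# Bounds for the numbers of inner and outer involutions (helper312, S3540)
-/

set_option autoImplicit false

namespace Cfsg.Agent.H312.HT

open Cfsg.Agent.H828.HT Cfsg.Agent.PermutationGroups.AutSL25 Matrix

universe u v

section mods

variable {K : Type v} [Field K] {V : Type u} [AddCommGroup V] [Module (Matrix (Fin 2) (Fin 2) K) V]

/-- the action of a matrix as an additive map -/
abbrev am (V : Type u) [AddCommGroup V] [Module (Matrix (Fin 2) (Fin 2) K) V] (M : Matrix (Fin 2) (Fin 2) K) : V →+ V :=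
  DistribSMul.toAddMonoidHom V M

theorem card_ker_range [Finite V] (M : Matrix (Fin 2) (Fin 2) K) :
    Nat.card (am V M).ker * Nat.card (am V M).range = Nat.card V := by
  rw [← AddSubgroup.index_ker, AddSubgroup.card_mul_index]

theorem card_range_ge [Finite V] {M : Matrix (Fin 2) (Fin 2) K} (hM : M ≠ 0) : bb K V ≤ Nat.card (am V M).range := by
  obtain ⟨i, k, hik⟩ : ∃ i k, M i k ≠ 0 := by
    by_contra hcon
    push Not at hcon
    exact hM (Matrix.ext hcon)
  refine Nat.card_le_card_of_injective (fun b : {b : V // InB K b} =>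
    (⟨M • (Matrix.single k 0 1 : Matrix (Fin 2) (Fin 2) K) • b.1, _, rfl⟩ : (am V M).range)) ?_
  intro b b' hbb
  have h1 : M • (Matrix.single k 0 1 : Matrix (Fin 2) (Fin 2) K) • b.1 = M • (Matrix.single k 0 1 : Matrix (Fin 2) (Fin 2) K) • b'.1 :=
    congrArg Subtype.val hbb
  have key : ∀ c : V, InB K c → (Matrix.single 0 i (M i k)⁻¹ : Matrix (Fin 2) (Fin 2) K) • M •
      (Matrix.single k 0 1 : Matrix (Fin 2) (Fin 2) K) • c = c := by
    intro c hc
    rw [← mul_smul, ← mul_smul, Matrix.single_mul_mul_single, inv_mul_cancel₀ hik, one_mul]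
    exact hc
  apply Subtype.ext
  rw [← key _ b.2, ← key _ b'.2, h1]

theorem card_ker_le [Finite V] {M : Matrix (Fin 2) (Fin 2) K} (hM : M ≠ 0) : Nat.card (am V M).ker ≤ bb K V := by
  have h1 := card_ker_range (V := V) M
  rw [card_V_eq (K := K) (V := V)] at h1
  have h2 := card_range_ge (V := V) hM
  have h3 : 0 < bb K V := by
    have : 0 < Nat.card V := Nat.card_pos
    rw [card_V_eq (K := K) (V := V)] at this
    exact Nat.pos_of_ne_zero fun h => by rw [h] at this; simp at this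
  have h4 : Nat.card (am V M).ker * bb K V ≤ bb K V * bb K V := by
    rw [← sq, ← h1]
    exact Nat.mul_le_mul_left _ h2
  exact Nat.le_of_mul_le_mul_right h4 h3

theorem card_range_of_zero_div [Finite V] {e e' : Matrix (Fin 2) (Fin 2) K} (he : e ≠ 0) (he' : e' ≠ 0) (hee : e * e' = 0) :
    Nat.card (am V e).range = bb K V := by
  refine le_antisymm ?_ (card_range_ge he)
  have h1 := card_ker_range (V := V) e
  rw [card_V_eq (K := K) (V := V)] at h1
  have h2 : bb K V ≤ Nat.card (am V e).ker := by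
    refine (card_range_ge (V := V) he').trans ?_
    refine Nat.card_le_card_of_injective (fun u : (am V e').range => (⟨u.1, ?_⟩ : (am V e).ker)) ?_
    · obtain ⟨w, hw⟩ := u.2
      rw [AddMonoidHom.mem_ker, ← hw]
      change e • e' • w = 0
      rw [← mul_smul, hee, zero_smul]
    · intro a b hab
      have h5 := congrArg Subtype.val hab
      exact Subtype.ext h5
  have h3 : 0 < bb K V := by
    have : 0 < Nat.card V := Nat.card_pos
    rw [card_V_eq (K := K) (V := V)] at this
    exact Nat.pos_of_ne_zero fun h => by rw [h] at this; simp at this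
  have h4 : bb K V * Nat.card (am V e).range ≤ bb K V * bb K V := by
    rw [← sq, ← h1]
    exact Nat.mul_le_mul_right _ h2
  exact Nat.le_of_mul_le_mul_left h4 h3

/-- the fixed ring of an involution has zero divisors -/
theorem exists_zero_div [Finite K] (h2 : (2 : K) ≠ 0) (φ : Matrix (Fin 2) (Fin 2) K →+* Matrix (Fin 2) (Fin 2) K)
    (hφ : ∀ M, φ (φ M) = M) {z : K} (hz : z ≠ 0) (hφz : φ (z • 1) = -(z • 1)) :
    ∃ e e' : Matrix (Fin 2) (Fin 2) K, φ e = e ∧ φ e' = e' ∧ e ≠ 0 ∧ e' ≠ 0 ∧ e * e' = 0 := by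
  by_contra hcon
  push Not at hcon
  let R : Subring (Matrix (Fin 2) (Fin 2) K) := φ.eqLocus (RingHom.id _)
  have hR : ∀ {M}, M ∈ R ↔ φ M = M := Iff.rfl
  have : NoZeroDivisors R := ⟨by
    rintro ⟨a, ha⟩ ⟨b, hb⟩ hab
    have h1 : a * b = 0 := congrArg Subtype.val hab
    by_cases ha0 : a = 0
    · left; exact Subtype.ext ha0
    · right
      by_contra hb0
      exact hcon a b ha hb ha0 (fun h => hb0 (Subtype.ext h)) h1⟩
  have : IsDomain R := NoZeroDivisors.to_isDomain R
  have hfield := Finite.isDomain_to_isField R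
  have hcomm : ∀ a b : Matrix (Fin 2) (Fin 2) K, φ a = a → φ b = b → a * b = b * a := fun a b ha hb =>
    congrArg Subtype.val (hfield.mul_comm ⟨a, ha⟩ ⟨b, hb⟩)
  have hcen : ∀ (c : K) (M : Matrix (Fin 2) (Fin 2) K), (c • (1 : Matrix (Fin 2) (Fin 2) K)) * M = M * (c • 1) := by
    intro c M
    rw [smul_mul_assoc, one_mul, mul_smul_comm, mul_one]
  set Z := z • (1 : Matrix (Fin 2) (Fin 2) K) with hZ
  have hcZ : ∀ M, Z * M = M * Z := fun M => hcen z M
  have hA : ∀ M, φ (M + φ M) = M + φ M := fun M => by rw [map_add, hφ, add_comm]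
  have hB : ∀ M, φ (Z * (M - φ M)) = Z * (M - φ M) := fun M => by
    rw [map_mul, map_sub, hφ, hφz, neg_mul, ← mul_neg, neg_sub]
  have key : ∀ M, (2 * z) • M = Z * (M + φ M) + Z * (M - φ M) := fun M => by
    rw [← mul_add, show M + φ M + (M - φ M) = (2 : K) • M by rw [two_smul]; abel, mul_smul_comm, hZ, smul_mul_assoc,
      one_mul, smul_smul]
  have hfin : ∀ M N : Matrix (Fin 2) (Fin 2) K, M * N = N * M := by
    intro M N
    have h3 : ((2 * z) • M) * ((2 * z) • N) = ((2 * z) • N) * ((2 * z) • M) := by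
      rw [key, key]
      set A := M + φ M
      set B := Z * (M - φ M)
      set C := N + φ N
      set D := Z * (N - φ N)
      have hAC := hcomm A C (hA M) (hA N)
      have hAD := hcomm A D (hA M) (hB N)
      have hBC := hcomm B C (hB M) (hA N)
      have hBD := hcomm B D (hB M) (hB N)
      calc (Z * A + B) * (Z * C + D) = Z * (A * Z) * C + Z * (A * D) + B * Z * C + B * D := by noncomm_ring
        _ = Z * (Z * A) * C + Z * (A * D) + Z * B * C + B * D := by rw [← hcZ A, ← hcZ B]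
        _ = Z * Z * (A * C) + Z * (A * D) + Z * (B * C) + B * D := by noncomm_ring
        _ = Z * Z * (C * A) + Z * (D * A) + Z * (C * B) + D * B := by rw [hAC, hAD, hBC, hBD]
        _ = Z * (Z * C) * A + (Z * D) * A + Z * (C * B) + D * B := by noncomm_ring
        _ = Z * (C * Z) * A + (D * Z) * A + Z * (C * B) + D * B := by rw [hcZ C, hcZ D]
        _ = (Z * C + D) * (Z * A + B) := by noncomm_ring
    rw [smul_mul_smul_comm, smul_mul_smul_comm] at h3
    have h4 : (2 * z) * (2 * z) ≠ 0 := mul_ne_zero (mul_ne_zero h2 hz) (mul_ne_zero h2 hz)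
    exact smul_right_injective _ h4 h3
  have h5 := hfin (eu 0 1) (eu 1 0)
  rw [eu_mul, eu_mul, if_pos rfl, if_pos rfl] at h5
  have h6 := congrFun (congrFun h5 0) 0
  simp at h6

end mods

section setup

variable {p : ℕ} [Fact p.Prime] {V : Type u} [AddCommGroup V] [Module (ZMod p) V] [Finite V]
  {G : Subgroup (V ≃ₗ[ZMod p] V)} {K : Type v} [Field K] [Module (Matrix (Fin 2) (Fin 2) K) V]
  {j : SL25 →* Matrix.SpecialLinearGroup (Fin 2) K} {l : SL25 →* (V ≃ₗ[ZMod p] V)}

theorem num_le {N P β : ℕ} (hP : P ^ 2 = β) (hP2 : 2 ≤ P) (h : N * P + 1 ≤ β + N) : N ≤ P + 1 := by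
  obtain ⟨Q, rfl⟩ : ∃ Q, P = Q + 1 := ⟨P - 1, by omega⟩
  subst hP
  have h1 : N * Q ≤ (Q + 2) * Q := by nlinarith
  exact Nat.le_of_mul_le_mul_right h1 (by omega)

namespace SetupQ

variable (hS : SetupQ G K j l)

include hS

/-- the number of outer involutions inducing a given automorphism -/
theorem card_N0 (hh : Half G 2) {t₀ : V ≃ₗ[ZMod p] V} (ht₀ : t₀ ∈ G) (hn₀ : t₀ ∉ LC G l) (h₀ : t₀ * t₀ = 1) {P : ℕ}
    (hP : P ^ 2 = bb K V) (hP2 : 2 ≤ P) :
    Nat.card {α : V ≃ₗ[ZMod p] V // α ∈ AA G l ∧ α * (t₀ * α * t₀⁻¹) = 1} ≤ P + 1 := by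
  have := hS.fin
  obtain ⟨ψ, hψ, -⟩ := hS.outer_data ht₀ hn₀ h₀
  obtain ⟨φ, hφv, hφ, -⟩ := hS.exists_phi hψ
  have hφφ : ∀ M, φ (φ M) = M := by
    intro M
    have h1 : φ (φ M) - M = 0 := by
      refine faithful (V := V) hS.nontriv fun v => ?_
      obtain ⟨w, rfl⟩ : ∃ w, v = t₀ (t₀ w) := ⟨v, by rw [← LinearEquiv.mul_apply, h₀]; rfl⟩
      rw [sub_smul, ← hφv, ← hφv, sub_eq_zero, ← LinearEquiv.mul_apply, ← LinearEquiv.mul_apply, h₀]
      rfl
    exact sub_eq_zero.1 h1
  have hφz : φ ((zeta j) • 1) = -((zeta j) • 1) := by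
    have h1 : φ ((zeta j) • 1) + (zeta j) • 1 = 0 := by
      refine faithful (V := V) hS.nontriv fun v => ?_
      obtain ⟨w, rfl⟩ := t₀.surjective v
      have h2 := hS.zeta_anti ht₀ hn₀ w
      unfold sc at h2
      rw [add_smul, ← hφv, h2, neg_add_cancel]
    exact eq_neg_of_add_eq_zero_left h1
  obtain ⟨e, e', he, he', hne, hne', hee⟩ := exists_zero_div hS.two_ne φ hφφ hS.zeta_ne hφz
  set U := AddSubgroup.toZModSubmodule p (am V e).range with hU
  have hmemU : ∀ u, u ∈ U ↔ ∃ w, e • w = u := fun u => Iff.rfl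
  have hcU : Nat.card U = bb K V := card_range_of_zero_div hne hne' hee
  let ι := {α : V ≃ₗ[ZMod p] V // α ∈ AA G l ∧ α * (t₀ * α * t₀⁻¹) = 1}
  have hF := Fintype.ofFinite ι
  have hg : ∀ i : ι, i.1 * t₀ ∈ G ∧ i.1 * t₀ ∉ LC G l ∧ (i.1 * t₀) * (i.1 * t₀) = 1 := by
    rintro ⟨a, ha, ha'⟩
    have hinv : t₀⁻¹ = t₀ := inv_eq_of_mul_eq_one_left h₀
    refine ⟨mul_mem (AA_le ha) ht₀, fun h => hn₀ ((Subgroup.mul_mem_cancel_left _ (AA_le_LC ha)).1 h), ?_⟩
    change (a * t₀) * (a * t₀) = 1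
    rw [hinv] at ha'
    rw [← ha']; group
  have h1 := pack_sum (V := V) (ι := ι) (fun i => {u | u ∈ U ∧ (i.1 * t₀) u = u}) (U : Set V) U.zero_mem
    (fun i u hu => hu.1) (fun i => ⟨U.zero_mem, map_zero _⟩) (by
      rintro i i' hne v ⟨-, hv⟩ ⟨-, hv'⟩
      by_contra hv0
      apply hne
      have h2 := eq_of_fix hh hv0 (hg i).1 (hg i').1 (fun h => (hg i).2.1 (by rw [h]; exact one_mem _))
        (fun h => (hg i').2.1 (by rw [h]; exact one_mem _)) hv hv'
      exact Subtype.ext (mul_right_cancel h2))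
  have h2 : ∀ i : ι, Nat.card ({u | u ∈ U ∧ (i.1 * t₀) u = u} : Set V) = P := by
    intro i
    have h3 := hS.card_fix_outer (hg i).1 (hg i).2.1 (hg i).2.2 U (by
      rintro u ⟨w, rfl⟩
      refine ⟨(i.1 * t₀) w, ?_⟩
      change e • (i.1 * t₀) w = (i.1 * t₀) (e • w)
      rw [LinearEquiv.mul_apply, LinearEquiv.mul_apply, hφv, he, hS.comm_smul i.2.1]) (by
      rintro u ⟨w, rfl⟩
      refine ⟨sc (zeta j) w, ?_⟩
      change e • sc (zeta j) w = sc (zeta j) (e • w)
      unfold sc
      rw [← mul_smul, ← mul_smul, mul_smul_comm, mul_one, smul_mul_assoc, one_mul])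
    rw [hcU, ← hP] at h3
    exact Nat.pow_left_injective (n := 2) (by norm_num) h3
  rw [Finset.sum_congr rfl (fun i _ => h2 i), Finset.sum_const, Finset.card_univ, smul_eq_mul] at h1
  change Fintype.card ι * P + 1 ≤ Nat.card U + Fintype.card ι at h1
  rw [hcU, ← Nat.card_eq_fintype_card] at h1
  exact num_le hP hP2 h1

/-- the number of `α ∈ AA` with `α² = -1` -/
theorem card_S (hh : Half G 2) {i : K} (hi : i * i = -1) {P : ℕ} (hP : P ^ 2 = bb K V) (hP2 : 2 ≤ P) :
    Nat.card {α : V ≃ₗ[ZMod p] V // α ∈ AA G l ∧ α * α = l (-1)} ≤ P + 1 := by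
  -- the matrix `-i S`
  set M : Matrix (Fin 2) (Fin 2) K := (-i) • (j S : Matrix (Fin 2) (Fin 2) K) with hM
  have hSS : (j S : Matrix (Fin 2) (Fin 2) K) * (j S) = -1 := by
    have h1 : j S * j S = -1 := by rw [← map_mul, relS, hS.j_neg]
    have h2 := congrArg Subtype.val h1
    simpa using h2
  have hMM : M * M = 1 := by
    rw [hM, smul_mul_smul_comm, hSS, neg_mul_neg, hi, neg_smul, one_smul, neg_neg]
  have hact : ∀ u : V, M • u = sc (-i) (l S u) := by
    intro u
    rw [hS.act, hM]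
    unfold sc
    rw [← mul_smul, smul_mul_assoc, one_mul]
  have hfixM : ∀ u : V, M • u = u ↔ l S u = sc i u := by
    intro u
    rw [hact]
    constructor
    · intro h
      have h1 := congrArg (sc i) h
      rw [sc_sc, mul_neg, hi, neg_neg, sc_one] at h1
      exact h1
    · intro h
      rw [h, sc_sc, neg_mul, hi, neg_neg, sc_one]
  -- the eigenspace
  let U0 : AddSubgroup V :=
    { carrier := {u | M • u = u}
      zero_mem' := smul_zero _
      add_mem' := fun {a b} ha hb => by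
        change M • (a + b) = a + b
        have ha' : M • a = a := ha
        have hb' : M • b = b := hb
        rw [smul_add, ha', hb']
      neg_mem' := fun {a} ha => by
        change M • (-a) = -a
        have ha' : M • a = a := ha
        rw [smul_neg, ha'] }
  set U := AddSubgroup.toZModSubmodule p U0 with hU
  have hmemU : ∀ u, u ∈ U ↔ M • u = u := fun u => Iff.rfl
  obtain ⟨w, hw⟩ := F.four_inv S relS
  have hcU : Nat.card U = bb K V := by
    have h1 := split_sq (p := p) hS.p_ne_two ⊤ (am V M) (fun u _ => trivial) (fun u _ => by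
      change M • M • u = u
      rw [← mul_smul, hMM, one_smul]) (fun u => l w u) (l w).injective (fun u _ => trivial) (fun u => by
      rw [map_neg]) (fun u _ => by
      change M • (l w u) = - l w (M • u)
      rw [hact, hact]
      have e1 : l S * l w = l (-1) * (l w * l S) := by
        rw [← map_mul, ← map_mul, ← map_mul]
        congr 1
        have h2 : S⁻¹ * w = w * S := by rw [← hw]; group
        have h3 : S⁻¹ = -S := by
          rw [inv_eq_iff_mul_eq_one]; rw [mul_neg, relS, neg_neg]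
        rw [← h2, h3]; simp
      have e2 := DFunLike.congr_fun e1 u
      simp only [LinearEquiv.mul_apply] at e2
      rw [e2, hS.l_neg]
      unfold sc
      rw [smul_neg]
      congr 1
      have e3 : ∀ c : K, ∀ u : V, l w ((c • (1 : Matrix (Fin 2) (Fin 2) K)) • u) = (c • (1 : Matrix (Fin 2) (Fin 2) K)) • l w u := by
        intro c u
        rw [hS.act, hS.act, ← mul_smul, ← mul_smul, mul_smul_comm, mul_one, smul_mul_assoc, one_mul]
      rw [e3])
    rw [Nat.card_congr (Equiv.subtypeUnivEquiv (α := V) (p := fun x => x ∈ (⊤ : Submodule (ZMod p) V)) fun _ => trivial),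
      card_V_eq (K := K) (V := V)] at h1
    rw [← Nat.pow_left_injective (n := 2) (by norm_num) h1]
    exact Nat.card_congr (Equiv.subtypeEquivRight fun u => by simp [hmemU])
  -- the family
  let ι := {α : V ≃ₗ[ZMod p] V // α ∈ AA G l ∧ α * α = l (-1)}
  have hF := Fintype.ofFinite ι
  let g : ι → V →+ V := fun a => (am V (i • 1 : Matrix (Fin 2) (Fin 2) K)).comp (a.1 : V →ₗ[ZMod p] V).toAddMonoidHom
  have hgv : ∀ a u, g a u = sc i (a.1 u) := fun a u => rfl
  let Fm : ι → Set V := fun a => {u | u ∈ U ∧ g a u = u}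
  have hfix : ∀ a : ι, ∀ u, u ∈ Fm a → (l S * a.1) u = u := by
    rintro a u ⟨hu, hau⟩
    rw [hgv] at hau
    rw [hmemU, hfixM] at hu
    rw [(mem_AA.1 a.2.1).2 S, LinearEquiv.mul_apply, hu, hS.AA_sc a.2.1, hau]
  have hne1 : ∀ a : ι, l S * a.1 ≠ 1 := by
    intro a h
    have h1 : l S = a.1⁻¹ := eq_inv_of_mul_eq_one_left h
    have h2 : l S ∈ AA G l := by rw [h1]; exact inv_mem a.2.1
    rcases hS.central_of_AA h2 with h3 | h3
    · exact absurd h3 (by decide +kernel)
    · have h4 := relS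
      rw [h3] at h4
      exact neg_one_ne (by rw [← h4]; simp)
  have h1 := pack_sum (V := V) (ι := ι) Fm (U : Set V) U.zero_mem (fun a u hu => hu.1)
    (fun a => ⟨U.zero_mem, map_zero _⟩) (by
      rintro a a' hne v hv hv'
      by_contra hv0
      apply hne
      have h2 := eq_of_fix hh hv0 (mul_mem (hS.mem S) (AA_le a.2.1)) (mul_mem (hS.mem S) (AA_le a'.2.1)) (hne1 a) (hne1 a')
        (hfix a v hv) (hfix a' v hv')
      exact Subtype.ext (mul_left_cancel h2))
  let ng : ι ≃ ι :=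
    { toFun := fun a => ⟨l (-1) * a.1, mul_mem hS.l_neg_mem a.2.1, by
        calc l (-1) * a.1 * (l (-1) * a.1) = l (-1) * (a.1 * l (-1)) * a.1 := by group
          _ = (l (-1) * l (-1)) * (a.1 * a.1) := by rw [← (mem_AA.1 a.2.1).2 (-1)]; group
          _ = l (-1) := by rw [l_neg_sq, a.2.2, one_mul]⟩
      invFun := fun a => ⟨l (-1) * a.1, mul_mem hS.l_neg_mem a.2.1, by
        calc l (-1) * a.1 * (l (-1) * a.1) = l (-1) * (a.1 * l (-1)) * a.1 := by group
          _ = (l (-1) * l (-1)) * (a.1 * a.1) := by rw [← (mem_AA.1 a.2.1).2 (-1)]; group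
          _ = l (-1) := by rw [l_neg_sq, a.2.2, one_mul]⟩
      left_inv := fun a => Subtype.ext (by
        change l (-1) * (l (-1) * a.1) = a.1
        rw [← mul_assoc, l_neg_sq, one_mul])
      right_inv := fun a => Subtype.ext (by
        change l (-1) * (l (-1) * a.1) = a.1
        rw [← mul_assoc, l_neg_sq, one_mul]) }
  have hgn : ∀ a u, g (ng a) u = - g a u := by
    intro a u
    rw [hgv, hgv]
    change sc i ((l (-1) * a.1) u) = _
    rw [LinearEquiv.mul_apply, hS.l_neg]
    unfold sc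
    rw [smul_neg]
  have h2 : ∀ a : ι, 2 * P ≤ Nat.card (Fm a) + Nat.card (Fm (ng a)) := by
    intro a
    have h3 := split (p := p) hS.p_ne_two U (g a) (by
      intro u hu
      rw [hmemU] at hu ⊢
      rw [hgv]
      have e1 : M • sc i (a.1 u) = sc i (a.1 (M • u)) := by
        rw [hS.comm_smul a.2.1]
        unfold sc
        rw [← mul_smul, ← mul_smul, mul_smul_comm, mul_one, smul_mul_assoc, one_mul]
      rw [e1, hu]) (by
      intro u _
      rw [hgv, hgv, hS.AA_sc a.2.1, sc_sc, hi, sc_neg, sc_one, ← LinearEquiv.mul_apply, a.2.2, hS.l_neg, neg_neg])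
    have h4 : Nat.card {u // u ∈ U ∧ g a u = -u} = Nat.card (Fm (ng a)) := by
      refine Nat.card_congr (Equiv.subtypeEquivRight fun u => ?_)
      change (u ∈ U ∧ g a u = -u) ↔ (u ∈ U ∧ g (ng a) u = u)
      rw [hgn, neg_eq_iff_eq_neg]
    have h5 : Nat.card {u // u ∈ U ∧ g a u = u} = Nat.card (Fm a) := rfl
    rw [h4, h5, hcU, ← hP] at h3
    by_contra hlt
    push Not at hlt
    nlinarith [sq_nonneg ((Nat.card (Fm a) : ℤ) - Nat.card (Fm (ng a))), four_mul_le_sq_add (Nat.card (Fm a)) (Nat.card (Fm (ng a))),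
      Nat.pow_lt_pow_left hlt (n := 2) (by norm_num)]
  have h3 : Fintype.card ι * (2 * P) ≤ 2 * ∑ a, Nat.card (Fm a) := by
    have e1 : ∑ a, Nat.card (Fm (ng a)) = ∑ a, Nat.card (Fm a) := Equiv.sum_comp ng (fun a => Nat.card (Fm a))
    rw [two_mul (∑ a, Nat.card (Fm a))]
    nth_rewrite 2 [← e1]
    rw [← Finset.sum_add_distrib, ← Finset.card_univ, ← smul_eq_mul, ← Finset.sum_const]
    exact Finset.sum_le_sum fun a _ => h2 a
  change ∑ a, Nat.card (Fm a) + 1 ≤ Nat.card U + Fintype.card ι at h1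
  rw [hcU] at h1
  change Nat.card ι ≤ P + 1
  rw [Nat.card_eq_fintype_card]
  refine num_le hP hP2 ?_
  have h4 : Fintype.card ι * P ≤ ∑ a, Nat.card (Fm a) := by
    have : 2 * (Fintype.card ι * P) ≤ 2 * ∑ a, Nat.card (Fm a) := by linarith
    omega
  linarith

end SetupQ

end setup

end Cfsg.Agent.H312.HT
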