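import Cfsg.Agent.H312.HT.Two

/-!
# The case `h = 2`: involutions (helper312, S3540)
-/

set_option autoImplicit false

namespace Cfsg.Agent.H312.HT

open Cfsg.Agent.H828.HT Cfsg.Agent.PermutationGroups.AutSL25 Matrix

universe u v

section split

variable {p : ℕ} [Fact p.Prime] {V : Type u} [AddCommGroup V] [Module (ZMod p) V] [Finite V]

omit [Finite V] in
theorem two_inj (hp : p ≠ 2) {u w : V} (h : u + u = w + w) : u = w := by
  have hp2 : (2 : ZMod p) ≠ 0 := by
    intro h2
    have h3 : ((2 : ℕ) : ZMod p) = 0 := by exact_mod_cast h2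
    rw [ZMod.natCast_eq_zero_iff] at h3
    exact hp ((Nat.prime_dvd_prime_iff_eq Fact.out Nat.prime_two).1 h3)
  have h4 : (2 : ZMod p) • u = (2 : ZMod p) • w := by rw [two_smul, two_smul, h]
  exact smul_right_injective V hp2 h4

omit [Finite V] in
theorem exists_half (hp : p ≠ 2) (U : Submodule (ZMod p) V) {u : V} (hu : u ∈ U) : ∃ w ∈ U, w + w = u := by
  have hp2 : (2 : ZMod p) ≠ 0 := by
    intro h2
    have h3 : ((2 : ℕ) : ZMod p) = 0 := by exact_mod_cast h2
    rw [ZMod.natCast_eq_zero_iff] at h3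
    exact hp ((Nat.prime_dvd_prime_iff_eq Fact.out Nat.prime_two).1 h3)
  refine ⟨(2 : ZMod p)⁻¹ • u, U.smul_mem _ hu, ?_⟩
  rw [← two_smul (ZMod p), smul_smul, mul_inv_cancel₀ hp2, one_smul]

/-- the eigenspaces of an involution on an invariant subspace -/
theorem split {F : Type*} [FunLike F V V] [AddMonoidHomClass F V V] (hp : p ≠ 2) (U : Submodule (ZMod p) V) (g : F) (hU : ∀ u ∈ U, g u ∈ U)
    (hg : ∀ u ∈ U, g (g u) = u) :
    Nat.card {u // u ∈ U ∧ g u = u} * Nat.card {u // u ∈ U ∧ g u = -u} = Nat.card U := by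
  rw [← Nat.card_prod]
  refine Nat.card_congr (Equiv.ofBijective (fun z : {u // u ∈ U ∧ g u = u} × {u // u ∈ U ∧ g u = -u} =>
    (⟨z.1.1 + z.2.1, U.add_mem z.1.2.1 z.2.2.1⟩ : U)) ⟨?_, ?_⟩)
  · rintro ⟨⟨a, ha, ha'⟩, ⟨b, hb, hb'⟩⟩ ⟨⟨c, hc, hc'⟩, ⟨d, hd, hd'⟩⟩ h
    have h1 : a + b = c + d := congrArg Subtype.val h
    have h2 : a - b = c - d := by
      have := congrArg g h1
      rw [map_add, map_add, ha', hb', hc', hd'] at this
      rw [sub_eq_add_neg, sub_eq_add_neg]; exact this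
    have h3 : a = c := by
      apply two_inj (p := p) hp
      calc a + a = (a + b) + (a - b) := by abel
        _ = (c + d) + (c - d) := by rw [h1, h2]
        _ = c + c := by abel
    subst h3
    have h4 : b = d := add_left_cancel h1
    subst h4
    rfl
  · rintro ⟨u, hu⟩
    obtain ⟨w, hw, rfl⟩ := exists_half (p := p) hp U hu
    refine ⟨(⟨w + g w, U.add_mem hw (hU w hw), ?_⟩, ⟨w - g w, U.sub_mem hw (hU w hw), ?_⟩), ?_⟩
    · rw [map_add, hg w hw, add_comm]
    · rw [map_sub, hg w hw]; abel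
    · apply Subtype.ext
      change w + g w + (w - g w) = w + w
      abel

/-- if an injective map interchanges the eigenspaces then both have the same size -/
theorem split_sq {F : Type*} [FunLike F V V] [AddMonoidHomClass F V V] (hp : p ≠ 2) (U : Submodule (ZMod p) V) (g : F) (hU : ∀ u ∈ U, g u ∈ U)
    (hg : ∀ u ∈ U, g (g u) = u) (z : V → V) (hz : Function.Injective z) (hzU : ∀ u ∈ U, z u ∈ U)
    (hzn : ∀ u, z (-u) = - z u) (hanti : ∀ u ∈ U, g (z u) = - z (g u)) :
    Nat.card {u // u ∈ U ∧ g u = u} ^ 2 = Nat.card U := by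
  have h1 : Nat.card {u // u ∈ U ∧ g u = u} ≤ Nat.card {u // u ∈ U ∧ g u = -u} := by
    refine Nat.card_le_card_of_injective (fun u => (⟨z u.1, hzU _ u.2.1, ?_⟩ : {u // u ∈ U ∧ g u = -u})) ?_
    · rw [hanti _ u.2.1, u.2.2]
    · intro a b hab
      exact Subtype.ext (hz (congrArg Subtype.val hab))
  have h2 : Nat.card {u // u ∈ U ∧ g u = -u} ≤ Nat.card {u // u ∈ U ∧ g u = u} := by
    refine Nat.card_le_card_of_injective (fun u => (⟨z u.1, hzU _ u.2.1, ?_⟩ : {u // u ∈ U ∧ g u = u})) ?_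
    · rw [hanti _ u.2.1, u.2.2, hzn, neg_neg]
    · intro a b hab
      exact Subtype.ext (hz (congrArg Subtype.val hab))
  rw [← split (p := p) hp U g hU hg, le_antisymm h2 h1, sq]

end split

section setup

variable {p : ℕ} [Fact p.Prime] {V : Type u} [AddCommGroup V] [Module (ZMod p) V] [Finite V]
  {G : Subgroup (V ≃ₗ[ZMod p] V)} {K : Type v} [Field K] [Module (Matrix (Fin 2) (Fin 2) K) V]
  {j : SL25 →* Matrix.SpecialLinearGroup (Fin 2) K} {l : SL25 →* (V ≃ₗ[ZMod p] V)}

theorem eq_of_fix (hh : Half G 2) {v : V} (hv : v ≠ 0) {g g' : V ≃ₗ[ZMod p] V} (hg : g ∈ G) (hg' : g' ∈ G) (h1 : g ≠ 1)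
    (h1' : g' ≠ 1) (hgv : g v = v) (hgv' : g' v = v) : g = g' := by
  have hc := card_sg hh hv
  by_contra hne
  have h3 : 3 ≤ Nat.card (sg G v) := by
    have e : Nat.card (Fin 3) ≤ Nat.card (sg G v) := by
      refine Nat.card_le_card_of_injective (fun i : Fin 3 => (![⟨1, one_mem _⟩, ⟨g, hg, hgv⟩, ⟨g', hg', hgv'⟩] i : sg G v)) ?_
      intro a b hab
      have hab' : (![1, g, g'] a : V ≃ₗ[ZMod p] V) = ![1, g, g'] b := by
        have := congrArg Subtype.val hab
        fin_cases a <;> fin_cases b <;> exact this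
      fin_cases a <;> fin_cases b <;> simp at hab' ⊢
      · exact h1 hab'.symm
      · exact h1' hab'.symm
      · exact h1 hab'
      · exact hne hab'
      · exact h1' hab'
      · exact hne hab'.symm
    simpa using e
  omega

theorem sq_of_fix (hh : Half G 2) {v : V} (hv : v ≠ 0) {g : V ≃ₗ[ZMod p] V} (hg : g ∈ G) (hgv : g v = v) : g * g = 1 := by
  have hc := card_sg hh hv
  have h1 : (⟨g, hg, hgv⟩ : sg G v) ^ Nat.card (sg G v) = 1 := pow_card_eq_one'
  rw [hc, sq] at h1
  exact congrArg Subtype.val h1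

/-- the size of `B` -/
noncomputable def bb (K : Type v) [Field K] (V : Type u) [AddCommGroup V] [Module (Matrix (Fin 2) (Fin 2) K) V] : ℕ :=
  Nat.card {b : V // InB K b}

theorem card_V_eq : Nat.card V = bb K V ^ 2 := by
  unfold bb
  rw [sq, ← Nat.card_prod]
  exact Nat.card_congr
    { toFun := fun v => (⟨(eu 0 0 : Matrix (Fin 2) (Fin 2) K) • v, inB_e00 v⟩, ⟨(eu 0 1 : Matrix (Fin 2) (Fin 2) K) • v, inB_e01 v⟩)
      invFun := fun z => vec K z.1.1 z.2.1
      left_inv := fun v => vec_coord v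
      right_inv := fun z => Prod.ext (Subtype.ext (e00_vec z.1.2 z.2.2)) (Subtype.ext (e01_vec z.1.2 z.2.2)) }

namespace SetupQ

variable (hS : SetupQ G K j l)

include hS

omit [Finite V] in
theorem p_ne_two : p ≠ 2 := by have := hS.p7; omega

/-- `√5` -/
noncomputable def _root_.Cfsg.Agent.H312.HT.zeta (j : SL25 →* Matrix.SpecialLinearGroup (Fin 2) K) : K := 2 * tr (j T) + 1

omit [Finite V] in
theorem zeta_ne : zeta j ≠ 0 := by
  intro h
  have h1 := hS.gamma
  unfold zeta at h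
  apply hS.five_ne
  linear_combination (2 * tr (j T) + 1) * h - 4 * h1

omit [Finite V] in
/-- an outer element anticommutes with `√5` -/
theorem zeta_anti {g : V ≃ₗ[ZMod p] V} (hg : g ∈ G) (hn : g ∉ LC G l) (v : V) : g (sc (zeta j) v) = - sc (zeta j) (g v) := by
  obtain ⟨ψ, hψ, hi⟩ := hS.exists_psi hg
  obtain ⟨w, hw⟩ := hS.outer_of_not_mem hg hn hψ hi
  obtain ⟨φ, hφv, hφ, -⟩ := hS.exists_phi hψ
  have h1 := hS.phi_gamma hφ
  have h4 : tr (j (ψ T)) = tr (j T) ^ 2 - 2 := by
    obtain ⟨w', hw'⟩ := F.conj_T3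
    rw [hw, F.phi0_T, hw', map_mul, map_mul, map_inv, tr_conj, map_mul, map_mul, map_inv, tr_conj, map_mul, tr_sq]
  have h5 : φ ((zeta j) • 1) = -(zeta j) • 1 := by
    unfold zeta
    have e1 : (2 * tr (j T) + 1) • (1 : Matrix (Fin 2) (Fin 2) K) = 2 * ((tr (j T)) • 1) + 1 := by
      rw [add_smul, one_smul, mul_smul, two_mul, two_smul]
    rw [e1, map_add, map_mul, map_ofNat, map_one, h1, h4]
    have h6 := hS.gamma
    have e2 : tr (j T) ^ 2 - 2 = -1 - tr (j T) := by linear_combination h6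
    rw [e2, two_mul, ← add_smul]
    nth_rewrite 2 [← one_smul K (1 : Matrix (Fin 2) (Fin 2) K)]
    rw [← add_smul]
    congr 1
    ring
  unfold sc
  rw [hφv, h5, neg_smul, neg_smul]

/-- outer involutions -/
theorem card_fix_outer {t : V ≃ₗ[ZMod p] V} (ht : t ∈ G) (hn : t ∉ LC G l) (h2 : t * t = 1)
    (U : Submodule (ZMod p) V) (hU : ∀ u ∈ U, t u ∈ U) (hUz : ∀ u ∈ U, sc (zeta j) u ∈ U) :
    Nat.card {u // u ∈ U ∧ t u = u} ^ 2 = Nat.card U := by
  refine split_sq (p := p) hS.p_ne_two U t hU (fun u _ => by rw [← LinearEquiv.mul_apply, h2]; rfl) (sc (zeta j)) ?_ hUz ?_ ?_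
  · intro a b hab
    exact sc_inj hS.zeta_ne hab
  · intro u
    unfold sc
    rw [smul_neg]
  · intro u _
    exact hS.zeta_anti ht hn u

/-- inner involutions -/
theorem card_fix_inner {x : SL25} (hx : x * x = -1) {α : V ≃ₗ[ZMod p] V} (hα : α ∈ AA G l) (h2 : α * α = l (-1)) :
    Nat.card {u : V // (l x * α) u = u} ^ 2 = Nat.card V := by
  obtain ⟨w, hw⟩ := F.four_inv x hx
  have hcomm := (mem_AA.1 hα).2
  have hinv : x⁻¹ = -x := by
    rw [inv_eq_iff_mul_eq_one]; rw [mul_neg, hx, neg_neg]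
  have h3 : (l x * α) * (l x * α) = 1 := by
    calc (l x * α) * (l x * α) = l x * (α * l x) * α := by group
      _ = l x * (l x * α) * α := by rw [hcomm]
      _ = l (x * x) * (α * α) := by rw [map_mul]; group
      _ = 1 := by rw [hx, h2, ← map_mul]; simp
  have h4 := split_sq (p := p) hS.p_ne_two ⊤ (l x * α) (fun u _ => trivial) (fun u _ => by
    rw [← LinearEquiv.mul_apply, h3]; rfl) (fun u => l w u) (l w).injective (fun u _ => trivial) (fun u => by
    rw [map_neg]) (fun u _ => by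
    have e1 : (l x * α) * l w = l (-1) * (l w * (l x * α)) := by
      calc (l x * α) * l w = l x * (α * l w) := by group
        _ = l x * (l w * α) := by rw [hcomm]
        _ = l (x * w) * α := by rw [map_mul]; group
        _ = l (-1 * (w * x)) * α := by
          congr 2
          have : x⁻¹ * w = w * x := by rw [← hw]; group
          rw [← this, hinv]; simp
        _ = _ := by rw [map_mul, map_mul]; group
    have e2 := DFunLike.congr_fun e1 u
    simp only [LinearEquiv.mul_apply] at e2 ⊢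
    rw [e2, hS.l_neg])
  rw [Nat.card_congr (Equiv.subtypeUnivEquiv (α := V) (p := fun x => x ∈ (⊤ : Submodule (ZMod p) V)) fun _ => trivial)] at h4
  rw [← h4]
  congr 1
  exact Nat.card_congr (Equiv.subtypeEquivRight fun u => by simp)

end SetupQ

end setup

end Cfsg.Agent.H312.HT
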