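import Cfsg.Agent.H312.HT.MultTwo

/-!
# Multiplicity one (helper312, S3540)
-/

set_option autoImplicit false

namespace Cfsg.Agent.H312.HT

open Cfsg.Agent.H828.HT Cfsg.Agent.PermutationGroups.AutSL25 Matrix

universe u v

theorem exists_r {h : ℕ} (h2 : 2 ≤ h) (hne : h ≠ 2) : ∃ r : ℕ, r.Prime ∧ ∀ s, (h = s ∨ h = 2 * s) → r ∣ s := by
  by_cases h4 : 4 ∣ h
  · refine ⟨2, Nat.prime_two, ?_⟩
    rintro s (rfl | rfl)
    · exact dvd_trans (by norm_num) h4
    · omega
  · obtain ⟨m, hm1, hmo, hm⟩ : ∃ m, m ≠ 1 ∧ m % 2 = 1 ∧ (h = m ∨ h = 2 * m) := by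
      rcases Nat.mod_two_eq_zero_or_one h with h0 | h0
      · exact ⟨h / 2, by omega, by omega, by omega⟩
      · exact ⟨h, by omega, h0, Or.inl rfl⟩
    refine ⟨m.minFac, Nat.minFac_prime hm1, ?_⟩
    have hd := Nat.minFac_dvd m
    intro s hs
    have : s = m ∨ s = 2 * m := by omega
    rcases this with rfl | rfl
    · exact hd
    · exact dvd_mul_of_dvd_right hd 2

section setup

variable {p : ℕ} [Fact p.Prime] {V : Type u} [AddCommGroup V] [Module (ZMod p) V] [Finite V]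
  {G : Subgroup (V ≃ₗ[ZMod p] V)} {h : ℕ} {K : Type v} [Field K] [Module (Matrix (Fin 2) (Fin 2) K) V]
  {j : SL25 →* Matrix.SpecialLinearGroup (Fin 2) K} {l : SL25 →* (V ≃ₗ[ZMod p] V)}

theorem bb_eq (hb : Nat.card V = Nat.card K ^ 2) : bb K V = Nat.card K := by
  rw [card_V_eq (K := K) (V := V)] at hb
  exact Nat.pow_left_injective (n := 2) (by norm_num) hb

omit [Finite V] in
theorem sc_ne {c : K} {v : V} (hv : v ≠ 0) (h : sc c v = 0) : c = 0 := by
  by_contra hc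
  exact hv (sc_inj hc (by rw [h, sc_zero]))

omit [Finite V] in
theorem sc_inj' {c d : K} {v : V} (hv : v ≠ 0) (h : sc c v = sc d v) : c = d := by
  have h1 : sc (c + -d) v = 0 := by rw [add_sc, sc_neg, h, add_neg_cancel]
  have h2 := sc_ne hv h1
  rwa [← sub_eq_add_neg, sub_eq_zero] at h2

namespace SetupQ

variable (hS : SetupQ G K j l)

include hS

/-- `AA` acts by scalars -/
theorem scal (hb : Nat.card V = Nat.card K ^ 2) {α : V ≃ₗ[ZMod p] V} (hα : α ∈ AA G l) : ∃ c : K, ∀ v, α v = sc c v := by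
  have := hS.fin
  have hbb := bb_eq hb
  obtain ⟨b₀, h0, hne⟩ : ∃ b₀ : V, InB K b₀ ∧ b₀ ≠ 0 := by
    by_contra hcon
    push Not at hcon
    obtain ⟨v, hv⟩ := hS.nontriv
    apply hv
    rw [← vec_coord (K := K) v, hcon _ (inB_e00 v), hcon _ (inB_e01 v)]
    unfold vec
    rw [smul_zero, add_zero]
  have hscB : ∀ c : K, InB K (sc c b₀) := by
    intro c
    unfold InB sc
    rw [← mul_smul, mul_smul_comm, mul_one]
    nth_rewrite 2 [← h0]
    rw [← mul_smul, smul_mul_assoc, one_mul]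
  have hbij : Function.Bijective (fun c : K => (⟨sc c b₀, hscB c⟩ : {b : V // InB K b})) := by
    rw [Nat.bijective_iff_injective_and_card]
    refine ⟨?_, hbb.symm⟩
    intro c d hcd
    exact sc_inj' hne (congrArg Subtype.val hcd)
  have hall : ∀ b : V, InB K b → ∃ c : K, b = sc c b₀ := by
    intro b hb
    obtain ⟨c, hc⟩ := hbij.2 ⟨b, hb⟩
    exact ⟨c, (congrArg Subtype.val hc).symm⟩
  obtain ⟨c, hc⟩ := hall _ (hS.AA_inB hα h0)
  refine ⟨c, fun v => ?_⟩
  have hB : ∀ b : V, InB K b → α b = sc c b := by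
    intro b hb
    obtain ⟨d, rfl⟩ := hall b hb
    rw [hS.AA_sc hα, hc, sc_sc, sc_sc, mul_comm]
  conv_lhs => rw [← vec_coord (K := K) v]
  rw [hS.AA_vec hα, hB _ (inB_e00 v), hB _ (inB_e01 v)]
  conv_rhs => rw [← vec_coord (K := K) v]
  unfold vec
  rw [sc_add]
  congr 1
  unfold sc
  have e : (eu 1 0 : Matrix (Fin 2) (Fin 2) K) * (c • 1) = (c • 1) * eu 1 0 := by
    rw [mul_smul_comm, mul_one, smul_mul_assoc, one_mul]
  rw [← mul_smul, e, mul_smul]

theorem AA_free (hb : Nat.card V = Nat.card K ^ 2) {α : V ≃ₗ[ZMod p] V} (hα : α ∈ AA G l) {v : V} (hv : v ≠ 0)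
    (h1 : α v = v) : α = 1 := by
  obtain ⟨c, hc⟩ := hS.scal hb hα
  have h2 : sc c v = sc (1 : K) v := by rw [← hc, h1, sc_one]
  have h3 := sc_inj' hv h2
  ext w
  rw [hc, h3, sc_one]
  rfl

theorem AA_comm (hb : Nat.card V = Nat.card K ^ 2) {α β : V ≃ₗ[ZMod p] V} (hα : α ∈ AA G l) (hβ : β ∈ AA G l) :
    α * β = β * α := by
  obtain ⟨c, hc⟩ := hS.scal hb hα
  obtain ⟨d, hd⟩ := hS.scal hb hβ
  ext w
  rw [LinearEquiv.mul_apply, LinearEquiv.mul_apply, hc, hd, hc, hd, sc_sc, sc_sc, mul_comm]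

/-- the eigenvectors of an element -/
theorem eig_le (hb : Nat.card V = Nat.card K ^ 2) {x : SL25} (h1 : x ≠ 1) (h2 : x ≠ -1) :
    Nat.card {v : V // v ≠ 0 ∧ ∃ c : K, l x v = sc c v} ≤ 2 * (Nat.card K - 1) := by
  have hbb := bb_eq hb
  by_cases hex : ∃ v : V, v ≠ 0 ∧ ∃ c : K, l x v = sc c v
  · obtain ⟨v₀, hv₀, c₁, hc₁⟩ := hex
    have hquad : ∀ (v : V) (c : K), v ≠ 0 → l x v = sc c v → c * c - tr (j x) * c + 1 = 0 := by
      intro v c hv hc
      have h3 := sl_sq (j x)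
      have h4 : ((j x : Matrix (Fin 2) (Fin 2) K) * (j x)) • v = sc (c * c) v := by
        rw [mul_smul, ← hS.act, ← hS.act, hc]
        have : l x (sc c v) = sc c (l x v) := by
          unfold sc
          rw [hS.act, hS.act, ← mul_smul, ← mul_smul, mul_smul_comm, mul_one, smul_mul_assoc, one_mul]
        rw [this, hc, sc_sc]
      rw [h3] at h4
      apply sc_ne hv
      rw [sub_smul, one_smul] at h4
      have h5 : ((j x 0 0 + j x 1 1) • (j x : Matrix (Fin 2) (Fin 2) K)) • v = sc (tr (j x) * c) v := by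
        rw [← sc_sc, ← hc, hS.act]
        unfold sc tr
        rw [← mul_smul, smul_mul_assoc, one_mul]
      rw [h5] at h4
      rw [sub_eq_add_neg, add_sc, add_sc, sc_neg, sc_one, ← h4]
      abel
    have hker : ∀ c : K, Nat.card {v : V // v ∈ (am V ((j x : Matrix (Fin 2) (Fin 2) K) - c • 1)).ker ∧ v ≠ 0} ≤ Nat.card K - 1 := by
      intro c
      have h3 : (j x : Matrix (Fin 2) (Fin 2) K) - c • 1 ≠ 0 := by
        intro h4
        have h5 := sub_eq_zero.1 h4
        have h6 := hS.not_scalar h1 h2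
        have e00 := congrFun (congrFun h5 0) 0
        have e01 := congrFun (congrFun h5 0) 1
        have e10 := congrFun (congrFun h5 1) 0
        have e11 := congrFun (congrFun h5 1) 1
        simp at e00 e01 e10 e11
        rcases h6 with h6 | h6 | h6
        · exact h6 e01
        · exact h6 e10
        · exact h6 (by rw [e00, e11])
      have h4 := card_ker_le (V := V) h3
      have h5 := card_nz (V := V) (((am V ((j x : Matrix (Fin 2) (Fin 2) K) - c • 1)).ker : AddSubgroup V) : Set V)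
        (AddSubgroup.zero_mem _)
      have h6 : Nat.card {v : V // v ∈ (am V ((j x : Matrix (Fin 2) (Fin 2) K) - c • 1)).ker ∧ v ≠ 0} + 1 =
        Nat.card (am V ((j x : Matrix (Fin 2) (Fin 2) K) - c • 1)).ker := h5
      omega
    have hmem : ∀ (v : V) (c : K), l x v = sc c v → v ∈ (am V ((j x : Matrix (Fin 2) (Fin 2) K) - c • 1)).ker := by
      intro v c hc
      rw [AddMonoidHom.mem_ker]
      change ((j x : Matrix (Fin 2) (Fin 2) K) - c • 1) • v = 0
      rw [sub_smul, ← hS.act, hc]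
      unfold sc
      rw [sub_self]
    have q1 := hquad v₀ c₁ hv₀ hc₁
    have h3 : Nat.card {v : V // v ≠ 0 ∧ ∃ c : K, l x v = sc c v} ≤
        Nat.card ({v : V // v ∈ (am V ((j x : Matrix (Fin 2) (Fin 2) K) - c₁ • 1)).ker ∧ v ≠ 0} ⊕
          {v : V // v ∈ (am V ((j x : Matrix (Fin 2) (Fin 2) K) - (tr (j x) - c₁) • 1)).ker ∧ v ≠ 0}) := by
      have key : ∀ v : {v : V // v ≠ 0 ∧ ∃ c : K, l x v = sc c v},
          ∃ s : ({v : V // v ∈ (am V ((j x : Matrix (Fin 2) (Fin 2) K) - c₁ • 1)).ker ∧ v ≠ 0} ⊕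
          {v : V // v ∈ (am V ((j x : Matrix (Fin 2) (Fin 2) K) - (tr (j x) - c₁) • 1)).ker ∧ v ≠ 0}),
          Sum.elim (fun z => z.1) (fun z => z.1) s = v.1 := by
        rintro ⟨v, hv, c, hc⟩
        have q2 := hquad v c hv hc
        have q3 : (c - c₁) * (c - (tr (j x) - c₁)) = 0 := by linear_combination q2 - q1
        rcases mul_eq_zero.1 q3 with h4 | h4
        · rw [sub_eq_zero] at h4
          subst h4
          exact ⟨Sum.inl ⟨v, hmem v _ hc, hv⟩, rfl⟩
        · rw [sub_eq_zero] at h4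
          exact ⟨Sum.inr ⟨v, by rw [← h4]; exact hmem v _ hc, hv⟩, rfl⟩
      choose f hf using key
      refine Nat.card_le_card_of_injective f ?_
      intro v w hvw
      apply Subtype.ext
      rw [← hf v, ← hf w, hvw]
    rw [Nat.card_sum] at h3
    have h4 := hker c₁
    have h5 := hker (tr (j x) - c₁)
    omega
  · have : IsEmpty {v : V // v ≠ 0 ∧ ∃ c : K, l x v = sc c v} := ⟨fun v => hex ⟨v.1, v.2⟩⟩
    rw [Nat.card_of_isEmpty]
    omega

theorem eig_count (hb : Nat.card V = Nat.card K ^ 2) (X : SL25 → Prop) (hX1 : ∀ x, X x → x * x ≠ 1)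
    (hXi : ∀ x, X x → X x⁻¹) (hex : ∀ v : V, v ≠ 0 → ∃ x, X x ∧ ∃ c : K, l x v = sc c v) :
    Nat.card K + 1 ≤ Nat.card {x // X x} := by
  classical
  have hq := hS.q_ge
  -- upper bound
  have hF : Fintype {x // X x} := Fintype.ofFinite _
  have h1 : Nat.card (Σ x : {x // X x}, {v : V // v ≠ 0 ∧ ∃ c : K, l x.1 v = sc c v}) ≤
      Nat.card {x // X x} * (2 * (Nat.card K - 1)) := by
    rw [Nat.card_sigma, Nat.card_eq_fintype_card (α := {x // X x}), ← Finset.card_univ, ← smul_eq_mul, ← Finset.sum_const]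
    refine Finset.sum_le_sum fun x _ => hS.eig_le hb ?_ ?_
    · intro h; exact hX1 _ x.2 (by rw [h, mul_one])
    · intro h; exact hX1 _ x.2 (by rw [h]; simp)
  -- lower bound
  have hex' : ∀ v : {v : V // v ≠ 0}, ∃ x : {x // X x}, ∃ c : K, l x.1 v.1 = sc c v.1 := fun v => by
    obtain ⟨x, hx, h⟩ := hex v.1 v.2
    exact ⟨⟨x, hx⟩, h⟩
  choose f hf using hex'
  have hinv : ∀ v : {v : V // v ≠ 0}, ∃ c : K, l (f v).1⁻¹ v.1 = sc c v.1 := by
    intro v
    obtain ⟨c, hc⟩ := hf v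
    have hc0 : c ≠ 0 := by
      rintro rfl
      have h3 : sc (0 : K) v.1 = 0 := by
        unfold sc
        rw [zero_smul, zero_smul]
      rw [h3] at hc
      exact v.2 ((LinearEquiv.map_eq_zero_iff _).1 hc)
    refine ⟨c⁻¹, ?_⟩
    have h3 : v.1 = sc c⁻¹ (l (f v).1 v.1) := by rw [hc, sc_sc, inv_mul_cancel₀ hc0, sc_one]
    have h4 : l (f v).1⁻¹ (sc c⁻¹ (l (f v).1 v.1)) = sc c⁻¹ v.1 := by
      have h5 : ∀ u : V, l (f v).1⁻¹ (sc c⁻¹ u) = sc c⁻¹ (l (f v).1⁻¹ u) := by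
        intro u
        unfold sc
        rw [hS.act, hS.act, ← mul_smul, ← mul_smul, mul_smul_comm, mul_one, smul_mul_assoc, one_mul]
      rw [h5, ← LinearEquiv.mul_apply, ← map_mul, inv_mul_cancel, map_one]
      rfl
    rw [← h3] at h4
    exact h4
  have h2 : Nat.card ({v : V // v ≠ 0} × Bool) ≤
      Nat.card (Σ x : {x // X x}, {v : V // v ≠ 0 ∧ ∃ c : K, l x.1 v = sc c v}) := by
    refine Nat.card_le_card_of_injective (fun z : {v : V // v ≠ 0} × Bool =>
      if z.2 then ⟨f z.1, z.1.1, z.1.2, hf z.1⟩ else ⟨⟨(f z.1).1⁻¹, hXi _ (f z.1).2⟩, z.1.1, z.1.2, hinv z.1⟩) ?_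
    have hff : ∀ v, (f v).1 ≠ (f v).1⁻¹ := fun v h => hX1 _ (f v).2 (by nth_rewrite 2 [h]; rw [mul_inv_cancel])
    rintro ⟨v, b⟩ ⟨w, b'⟩ hvw
    have key : ∀ s t : (Σ x : {x // X x}, {v : V // v ≠ 0 ∧ ∃ c : K, l x.1 v = sc c v}), s = t →
        s.1.1 = t.1.1 ∧ s.2.1 = t.2.1 := by rintro s t rfl; exact ⟨rfl, rfl⟩
    have h3 := key _ _ hvw
    cases b <;> cases b'
    · have : v = w := Subtype.ext h3.2
      rw [this]
    · have : v = w := Subtype.ext h3.2
      subst this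
      exact absurd h3.1.symm (hff v)
    · have : v = w := Subtype.ext h3.2
      subst this
      exact absurd h3.1 (hff v)
    · have : v = w := Subtype.ext h3.2
      rw [this]
  have h3 := card_nz (Set.univ : Set V) (Set.mem_univ 0)
  rw [Nat.card_congr (Equiv.Set.univ V), hb] at h3
  have h4 : Nat.card {v : V // v ≠ 0} = Nat.card {v : V // v ∈ (Set.univ : Set V) ∧ v ≠ 0} :=
    Nat.card_congr (Equiv.subtypeEquivRight fun v => by simp)
  rw [Nat.card_prod, h4, Nat.card_eq_fintype_card (α := Bool), Fintype.card_bool] at h2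
  obtain ⟨q, hq1⟩ : ∃ q, Nat.card K = q + 1 := ⟨Nat.card K - 1, by omega⟩
  rw [hq1] at h1 h3 ⊢
  rw [Nat.add_sub_cancel] at h1
  have h5 : Nat.card {v : V // v ∈ (Set.univ : Set V) ∧ v ≠ 0} = (q + 2) * q := by
    have : (q + 1) ^ 2 = (q + 2) * q + 1 := by ring
    omega
  rw [h5] at h2
  have h6 : (q + 2) * (2 * q) ≤ Nat.card {x // X x} * (2 * q) := by
    calc (q + 2) * (2 * q) = (q + 2) * q * 2 := by ring
      _ ≤ _ := h2.trans h1
  exact Nat.le_of_mul_le_mul_right h6 (by omega)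

end SetupQ

end setup

end Cfsg.Agent.H312.HT
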