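import Cfsg.Agent.H312.HT.MultOne

/-!
# Multiplicity one: the numerical conclusion (helper312, S3540)
-/

set_option autoImplicit false

namespace Cfsg.Agent.H312.HT

open Cfsg.Agent.H828.HT Cfsg.Agent.PermutationGroups.AutSL25 Matrix

universe u v

/-- the order of the square of an element outside the centre -/
theorem F.sq_orders (x : SL25) (h1 : x ≠ 1) (h2 : x ≠ -1) :
    (x * x) ^ 2 = 1 ∨ (x * x) ^ 3 = 1 ∨ (x * x) ^ 5 = 1 := by
  have hn : (-1 : SL25) * -1 = 1 := by simp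
  rcases F.orders x h1 h2 with h | h | h | h | h
  · left; rw [h, sq, hn]
  · right; left
    have : (x * x) ^ 3 = (x * x * x) * (x * x * x) := by simp only [pow_succ, pow_zero, one_mul, mul_assoc]
    rw [this, h, mul_one]
  · right; left
    have : (x * x) ^ 3 = (x * x * x) * (x * x * x) := by simp only [pow_succ, pow_zero, one_mul, mul_assoc]
    rw [this, h, hn]
  · right; right
    have : (x * x) ^ 5 = (x * x * x * x * x) * (x * x * x * x * x) := by simp only [pow_succ, pow_zero, one_mul, mul_assoc]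
    rw [this, h, mul_one]
  · right; right
    have : (x * x) ^ 5 = (x * x * x * x * x) * (x * x * x * x * x) := by simp only [pow_succ, pow_zero, one_mul, mul_assoc]
    rw [this, h, hn]

theorem F.prime_power {r : ℕ} (hr : r.Prime) (x : SL25) (h1 : x ≠ 1) (h2 : x ≠ -1) (hx : x ^ r = 1 ∨ x ^ r = -1) :
    r = 2 ∨ r = 3 ∨ r = 5 := by
  by_contra hcon
  push Not at hcon
  obtain ⟨r2, r3, r5⟩ := hcon
  have hn : (-1 : SL25) * -1 = 1 := by simp
  have hy : (x * x) ^ r = 1 := by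
    have : (x * x) ^ r = x ^ r * x ^ r := by rw [← pow_add, ← two_mul, pow_mul, sq]
    rw [this]
    rcases hx with h | h <;> rw [h]
    · rw [mul_one]
    · exact hn
  have key : ∀ s : ℕ, s.Prime → r ≠ s → (x * x) ^ s = 1 → x * x = 1 := by
    intro s hs hrs hys
    have h3 : orderOf (x * x) ∣ r := orderOf_dvd_of_pow_eq_one hy
    have h4 : orderOf (x * x) ∣ s := orderOf_dvd_of_pow_eq_one hys
    have h5 : r.Coprime s := (Nat.coprime_primes hr hs).2 hrs
    have h6 : orderOf (x * x) = 1 := Nat.eq_one_of_dvd_coprimes h5 h3 h4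
    exact orderOf_eq_one_iff.1 h6
  have h3 : x * x = 1 := by
    rcases F.sq_orders x h1 h2 with h | h | h
    · exact key 2 Nat.prime_two r2 h
    · exact key 3 Nat.prime_three r3 h
    · exact key 5 Nat.prime_five r5 h
  exact h2 (eq_neg_one x h3 h1)

section setup

variable {p : ℕ} [Fact p.Prime] {V : Type u} [AddCommGroup V] [Module (ZMod p) V] [Finite V]
  {G : Subgroup (V ≃ₗ[ZMod p] V)} {h : ℕ} {K : Type v} [Field K] [Module (Matrix (Fin 2) (Fin 2) K) V]
  {j : SL25 →* Matrix.SpecialLinearGroup (Fin 2) K} {l : SL25 →* (V ≃ₗ[ZMod p] V)}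

namespace SetupQ

variable (hS : SetupQ G K j l)

include hS

theorem small_q (hb : Nat.card V = Nat.card K ^ 2) {r : ℕ} (hr : r.Prime)
    (hdvd : ∀ v : V, v ≠ 0 → r ∣ Nat.card (sg (LC G l) v)) : Nat.card K + 1 ≤ 30 := by
  have hex : ∀ v : V, v ≠ 0 → ∃ x : SL25, x ≠ 1 ∧ x ≠ -1 ∧ (x ^ r = 1 ∨ x ^ r = -1) ∧ ∃ c : K, l x v = sc c v := by
    intro v hv
    have := Fact.mk hr
    obtain ⟨⟨g, ⟨x, α, hα, hg⟩, hgv⟩, hord⟩ := exists_prime_orderOf_dvd_card' r (hdvd v hv)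
    have hgr : g ^ r = 1 := by
      have h1 := pow_orderOf_eq_one (⟨g, ⟨x, α, hα, hg⟩, hgv⟩ : sg (LC G l) v)
      rw [hord] at h1
      exact congrArg Subtype.val h1
    have hg1 : g ≠ 1 := by
      rintro rfl
      have : (⟨1, ⟨x, α, hα, hg⟩, hgv⟩ : sg (LC G l) v) = 1 := rfl
      rw [this, orderOf_one] at hord
      exact hr.one_lt.ne hord
    have hcomm : Commute (l x) α := (mem_AA.1 hα).2 x
    have h2 : l (x ^ r) * α ^ r = 1 := by rw [map_pow, ← hcomm.mul_pow, ← hg, hgr]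
    have h3 : l (x ^ r) ∈ AA G l := by
      rw [eq_inv_of_mul_eq_one_left h2]
      exact inv_mem (pow_mem hα r)
    have hgA : g ∉ AA G l := fun h => hg1 (hS.AA_free hb h hv hgv)
    have hx1 : x ≠ 1 := by
      rintro rfl
      apply hgA
      rw [hg, map_one, one_mul]; exact hα
    have hx2 : x ≠ -1 := by
      rintro rfl
      apply hgA
      rw [hg]
      exact mul_mem hS.l_neg_mem hα
    obtain ⟨c, hc⟩ := hS.scal hb (inv_mem hα)
    refine ⟨x, hx1, hx2, hS.central_of_AA h3, c, ?_⟩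
    rw [← hc]
    have h4 : l x (α v) = v := by rw [← LinearEquiv.mul_apply, ← hg]; exact hgv
    have h5 : α (l x v) = v := by rw [← LinearEquiv.mul_apply, ← (mem_AA.1 hα).2 x]; exact h4
    calc l x v = α⁻¹ (α (l x v)) := by rw [← LinearEquiv.mul_apply, inv_mul_cancel]; rfl
      _ = α⁻¹ v := by rw [h5]
  have hnn : (-1 : SL25) * -1 = 1 := by simp
  have hneg : ∀ (x : SL25) (v : V), (∃ c : K, l x v = sc c v) → ∃ c : K, l (-x) v = sc c v := by
    rintro x v ⟨c, hc⟩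
    refine ⟨-c, ?_⟩
    have h1 : l (-x) = l (-1) * l x := by rw [← map_mul]; simp
    rw [h1, LinearEquiv.mul_apply, hS.l_neg, hc, sc_neg]
  have hrr : r = 2 ∨ r = 3 ∨ r = 5 := by
    obtain ⟨v, hv⟩ := hS.nontriv
    obtain ⟨x, h1, h2, h3, -⟩ := hex v hv
    exact F.prime_power hr x h1 h2 h3
  rcases hrr with rfl | rfl | rfl
  · refine (hS.eig_count hb (fun x => x * x = -1) ?_ ?_ ?_).trans ?_
    · intro x hx h
      exact neg_one_ne (hx.symm.trans h)
    · intro x hx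
      have : (-1 : SL25)⁻¹ = -1 := by rw [inv_eq_iff_mul_eq_one]; exact hnn
      rw [← _root_.mul_inv_rev, hx, this]
    · intro v hv
      obtain ⟨x, h1, h2, h3, h4⟩ := hex v hv
      refine ⟨x, ?_, h4⟩
      rw [sq] at h3
      rcases h3 with h3 | h3
      · exact absurd (eq_neg_one x h3 h1) h2
      · exact h3
    · rw [Nat.card_eq_fintype_card, F.card_four]
  · refine (hS.eig_count hb (fun x => x * x * x = 1 ∧ x ≠ 1) ?_ ?_ ?_).trans ?_
    · rintro x ⟨hx, hx1⟩ h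
      rw [h, one_mul] at hx
      exact hx1 hx
    · rintro x ⟨hx, hx1⟩
      refine ⟨?_, fun h => hx1 (inv_eq_one.1 h)⟩
      calc x⁻¹ * x⁻¹ * x⁻¹ = (x * x * x)⁻¹ := by group
        _ = 1 := by rw [hx, inv_one]
    · intro v hv
      obtain ⟨x, h1, h2, h3, h4⟩ := hex v hv
      have h5 : x ^ 3 = x * x * x := by simp only [pow_succ, pow_zero, one_mul]
      rw [h5] at h3
      rcases h3 with h3 | h3
      · exact ⟨x, ⟨h3, h1⟩, h4⟩
      · refine ⟨-x, ⟨?_, fun h => h2 ?_⟩, hneg x v h4⟩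
        · have : -x * -x * -x = -(x * x * x) := by simp
          rw [this, h3]; simp
        · rw [← h]; simp
    · rw [Nat.card_eq_fintype_card, F.card_three]; norm_num
  · refine (hS.eig_count hb (fun x => x * x * x * x * x = 1 ∧ x ≠ 1) ?_ ?_ ?_).trans ?_
    · rintro x ⟨hx, hx1⟩ h
      have : x * x * x * x * x = (x * x) * (x * x) * x := by group
      rw [this, h, one_mul, one_mul] at hx
      exact hx1 hx
    · rintro x ⟨hx, hx1⟩
      refine ⟨?_, fun h => hx1 (inv_eq_one.1 h)⟩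
      calc x⁻¹ * x⁻¹ * x⁻¹ * x⁻¹ * x⁻¹ = (x * x * x * x * x)⁻¹ := by group
        _ = 1 := by rw [hx, inv_one]
    · intro v hv
      obtain ⟨x, h1, h2, h3, h4⟩ := hex v hv
      have h5 : x ^ 5 = x * x * x * x * x := by simp only [pow_succ, pow_zero, one_mul]
      rw [h5] at h3
      rcases h3 with h3 | h3
      · exact ⟨x, ⟨h3, h1⟩, h4⟩
      · refine ⟨-x, ⟨?_, fun h => h2 ?_⟩, hneg x v h4⟩
        · have : -x * -x * -x * -x * -x = -(x * x * x * x * x) := by simp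
          rw [this, h3]; simp
        · rw [← h]; simp
    · rw [Nat.card_eq_fintype_card, F.card_five]; norm_num

/-! ### `|K| = p` -/

omit hS in
theorem _root_.Cfsg.Agent.H312.HT.F.no7 : ∀ z : ZMod 7, z * z + z ≠ 1 := by decide
omit hS in
theorem _root_.Cfsg.Agent.H312.HT.F.no13 : ∀ z : ZMod 13, z * z + z ≠ 1 := by decide
omit hS in
theorem _root_.Cfsg.Agent.H312.HT.F.no17 : ∀ z : ZMod 17, z * z + z ≠ 1 := by decide
omit hS in
theorem _root_.Cfsg.Agent.H312.HT.F.no23 : ∀ z : ZMod 23, z * z + z ≠ 1 := by decide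

omit [Finite V] in
theorem exists_root (hK : Nat.card K = p) : ∃ z : ZMod p, z * z + z = 1 := by
  have := hS.char
  have := hS.fin
  have hF := Fintype.ofFinite K
  rw [Nat.card_eq_fintype_card] at hK
  have hsurj : Function.Bijective (ZMod.castHom (dvd_refl p) K) := by
    rw [Fintype.bijective_iff_injective_and_card]
    exact ⟨(ZMod.castHom _ K).injective, by rw [ZMod.card, hK]⟩
  obtain ⟨z, hz⟩ := hsurj.2 (tr (j T))
  refine ⟨z, hsurj.1 ?_⟩
  rw [map_add, map_mul, map_one, hz, ← sq]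
  exact hS.gamma

omit [Finite V] in
theorem primes_of_root (hK : Nat.card K = p) (h30 : p + 1 ≤ 30) : p = 11 ∨ p = 19 ∨ p = 29 := by
  obtain ⟨z, hz⟩ := hS.exists_root hK
  have h7 := hS.p7
  have hp : p.Prime := Fact.out
  clear hS hK
  have h29 : p ≤ 29 := by omega
  interval_cases p
  all_goals first
    | (exfalso; revert hp; norm_num; done)
    | exact (F.no7 z hz).elim
    | exact (F.no13 z hz).elim
    | exact (F.no17 z hz).elim
    | exact (F.no23 z hz).elim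
    | simp

theorem mult_one_p (hh : Half G h) (h2 : 2 ≤ h) (hb : Nat.card V = Nat.card K ^ 2) (hK : Nat.card K = p) :
    Module.finrank (ZMod p) V = 2 ∧ (p = 11 ∨ p = 19 ∨ p = 29) := by
  obtain ⟨r, hr, hrh⟩ := Nat.exists_prime_and_dvd (n := h) (by omega)
  have h1 := hS.small_q hb hr (by
    intro v hv
    have h3 : sg (LC G l) v = sg G v := le_antisymm (sg_mono hS.LC_le v) fun g hg => ⟨hS.mem_LC_of_card hK hg.1, hg.2⟩
    rw [h3, card_sg hh hv]
    exact hrh)
  rw [hK] at h1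
  refine ⟨?_, hS.primes_of_root hK h1⟩
  rw [card_eq_pow (p := p), hK] at hb
  exact Nat.pow_right_injective (Fact.out : p.Prime).two_le hb

/-! ### `|K| = p²` -/

theorem card_S2 (hb : Nat.card V = Nat.card K ^ 2) {i : K} (hi : i * i = -1) :
    Nat.card {α : V ≃ₗ[ZMod p] V // α ∈ AA G l ∧ α * α = l (-1)} ≤ 2 := by
  classical
  obtain ⟨v₀, hv₀⟩ := hS.nontriv
  have hsc : ∀ α : {α : V ≃ₗ[ZMod p] V // α ∈ AA G l ∧ α * α = l (-1)}, ∃ c : K, (∀ v, α.1 v = sc c v) ∧ (c = i ∨ c = -i) := by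
    rintro ⟨α, hα, hα2⟩
    obtain ⟨c, hc⟩ := hS.scal hb hα
    refine ⟨c, hc, ?_⟩
    have h1 : sc (c * c) v₀ = sc (-1 : K) v₀ := by
      rw [← sc_sc, ← hc, ← hc, ← LinearEquiv.mul_apply, hα2, hS.l_neg, sc_neg, sc_one]
    have h2 := sc_inj' hv₀ h1
    have h3 : (c - i) * (c + i) = 0 := by linear_combination h2 - hi
    rcases mul_eq_zero.1 h3 with h4 | h4
    · left; exact sub_eq_zero.1 h4
    · right; exact eq_neg_of_add_eq_zero_left h4
  choose f hf hf' using hsc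
  have h1 : Nat.card {α : V ≃ₗ[ZMod p] V // α ∈ AA G l ∧ α * α = l (-1)} ≤ Nat.card Bool := by
    refine Nat.card_le_card_of_injective (fun a => decide (f a = i)) ?_
    intro a b hab
    have h2 : (f a = i) ↔ (f b = i) := by simpa using hab
    have h3 : f a = f b := by
      rcases hf' a with ha | ha
      · rw [ha, h2.1 ha]
      · rcases hf' b with hb | hb
        · rw [hb, h2.2 hb]
        · rw [ha, hb]
    apply Subtype.ext
    ext v
    rw [hf, hf, h3]
  rwa [Nat.card_eq_fintype_card (α := Bool), Fintype.card_bool] at h1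

/-- the group of the `α ∈ AA` with `α α^t = 1` -/
def N0 (hb : Nat.card V = Nat.card K ^ 2) {t₀ : V ≃ₗ[ZMod p] V} (ht₀ : t₀ ∈ G) : Subgroup (V ≃ₗ[ZMod p] V) where
  carrier := {α | α ∈ AA G l ∧ α * (t₀ * α * t₀⁻¹) = 1}
  one_mem' := ⟨one_mem _, by group⟩
  mul_mem' := by
    rintro a b ⟨ha, ha'⟩ ⟨hb1, hb'⟩
    refine ⟨mul_mem ha hb1, ?_⟩
    have h1 := hS.AA_comm hb hb1 (hS.AA_conj ht₀ ha)
    calc a * b * (t₀ * (a * b) * t₀⁻¹) = a * (b * (t₀ * a * t₀⁻¹)) * (t₀ * b * t₀⁻¹) := by group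
      _ = a * ((t₀ * a * t₀⁻¹) * b) * (t₀ * b * t₀⁻¹) := by rw [h1]
      _ = (a * (t₀ * a * t₀⁻¹)) * (b * (t₀ * b * t₀⁻¹)) := by group
      _ = 1 := by rw [ha', hb', mul_one]
  inv_mem' := by
    rintro a ⟨ha, ha'⟩
    refine ⟨inv_mem ha, ?_⟩
    have h1 := hS.AA_comm hb ha (hS.AA_conj ht₀ ha)
    calc a⁻¹ * (t₀ * a⁻¹ * t₀⁻¹) = ((t₀ * a * t₀⁻¹) * a)⁻¹ := by group
      _ = 1 := by rw [← h1, ha', inv_one]

theorem N0_even (hb : Nat.card V = Nat.card K ^ 2) {t₀ : V ≃ₗ[ZMod p] V} (ht₀ : t₀ ∈ G) :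
    2 ∣ Nat.card {α : V ≃ₗ[ZMod p] V // α ∈ AA G l ∧ α * (t₀ * α * t₀⁻¹) = 1} := by
  change 2 ∣ Nat.card (hS.N0 hb ht₀)
  have hm : l (-1) ∈ hS.N0 hb ht₀ := by
    refine ⟨hS.l_neg_mem, ?_⟩
    have h1 : t₀ * l (-1) = l (-1) * t₀ := by
      ext v
      rw [LinearEquiv.mul_apply, LinearEquiv.mul_apply, hS.l_neg, hS.l_neg, map_neg]
    rw [h1, mul_assoc (l (-1)), mul_inv_cancel, mul_one, l_neg_sq]
  have h2 : orderOf (⟨l (-1), hm⟩ : hS.N0 hb ht₀) = 2 := by
    have := Fact.mk Nat.prime_two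
    refine orderOf_eq_prime ?_ ?_
    · apply Subtype.ext
      change (l (-1)) ^ 2 = 1
      rw [sq, l_neg_sq]
    · intro h
      have h3 : l (-1) = 1 := congrArg Subtype.val h
      exact neg_one_ne (hS.l_inj (by rw [h3, map_one]))
  rw [← h2]
  exact orderOf_dvd_natCard _

theorem N0_four (hb : Nat.card V = Nat.card K ^ 2) (h7 : p = 7) {t₀ : V ≃ₗ[ZMod p] V} (ht₀ : t₀ ∈ G) (hn₀ : t₀ ∉ LC G l)
    {α : V ≃ₗ[ZMod p] V} (hα : α ∈ AA G l) (hα2 : α * α = l (-1)) :
    4 ∣ Nat.card {α : V ≃ₗ[ZMod p] V // α ∈ AA G l ∧ α * (t₀ * α * t₀⁻¹) = 1} := by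
  change 4 ∣ Nat.card (hS.N0 hb ht₀)
  obtain ⟨v₀, hv₀⟩ := hS.nontriv
  obtain ⟨c, hc⟩ := hS.scal hb hα
  have hcc : c * c = -1 := by
    have h1 : sc (c * c) v₀ = sc (-1 : K) v₀ := by
      rw [← sc_sc, ← hc, ← hc, ← LinearEquiv.mul_apply, hα2, hS.l_neg, sc_neg, sc_one]
    exact sc_inj' hv₀ h1
  have h70 : (7 : K) = 0 := by
    have := hS.char
    have h1 : ((p : ℕ) : K) = 0 := CharP.cast_eq_zero K p
    rw [h7] at h1
    exact_mod_cast h1
  have h3 : (3 : K) ≠ 0 := by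
    intro h
    have h2 : (1 : K) = 0 := by linear_combination h70 - 2 * h
    exact one_ne_zero h2
  have hz : zeta j = 3 * c ∨ zeta j = -(3 * c) := by
    have h4 : (zeta j - 3 * c) * (zeta j + 3 * c) = 0 := by
      have hg := hS.gamma
      unfold zeta
      linear_combination 4 * hg - 9 * hcc + 2 * h70
    rcases mul_eq_zero.1 h4 with h5 | h5
    · left; exact sub_eq_zero.1 h5
    · right; exact eq_neg_of_add_eq_zero_left h5
  have hanti : ∀ v, t₀ (sc c v) = - sc c (t₀ v) := by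
    intro v
    have h4 : t₀ (sc (3 * c) v) = - sc (3 * c) (t₀ v) := by
      have h5 := hS.zeta_anti ht₀ hn₀ v
      rcases hz with h6 | h6
      · rw [← h6]; exact h5
      · rw [h6, sc_neg, sc_neg, map_neg, neg_neg] at h5
        rw [← h5, neg_neg]
    have h5 : ∀ w : V, sc (3 * c) w = sc c w + sc c w + sc c w := by
      intro w
      rw [show (3 : K) * c = c + c + c by ring, add_sc, add_sc]
    rw [h5, h5, map_add, map_add] at h4
    have h6 : sc (3 : K) (t₀ (sc c v) + sc c (t₀ v)) = sc (3 : K) 0 := by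
      rw [sc_zero, show (3 : K) = 1 + 1 + 1 by norm_num, add_sc, add_sc, sc_one]
      have : (t₀ (sc c v) + t₀ (sc c v) + t₀ (sc c v)) + (sc c (t₀ v) + sc c (t₀ v) + sc c (t₀ v)) = 0 := by
        rw [h4]; abel
      rw [← this]; abel
    exact eq_neg_of_add_eq_zero_left (sc_inj h3 h6)
  have hm : α ∈ hS.N0 hb ht₀ := by
    refine ⟨hα, ?_⟩
    ext v
    rw [LinearEquiv.mul_apply, LinearEquiv.mul_apply, LinearEquiv.mul_apply, hc, hc, hanti, ← LinearEquiv.mul_apply t₀,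
      mul_inv_cancel]
    change sc c (-sc c v) = v
    rw [← sc_neg, sc_sc, mul_neg, hcc, neg_neg, sc_one]
  have h4 : orderOf (⟨α, hm⟩ : hS.N0 hb ht₀) = 4 := by
    have := Fact.mk Nat.prime_two
    refine orderOf_eq_prime_pow (p := 2) (n := 1) ?_ ?_
    · intro h
      have h5 : α ^ (2 ^ 1) = 1 := congrArg Subtype.val h
      rw [pow_one, sq, hα2] at h5
      exact neg_one_ne (hS.l_inj (by rw [h5, map_one]))
    · apply Subtype.ext
      change α ^ (2 ^ (1 + 1)) = 1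
      have : α ^ (2 ^ (1 + 1)) = (α * α) * (α * α) := by rw [← sq, ← sq, ← pow_mul]; norm_num
      rw [this, hα2, l_neg_sq]
  rw [← h4]
  exact orderOf_dvd_natCard _

theorem mult_one_q (hh : Half G h) (h2 : 2 ≤ h) (hb : Nat.card V = Nat.card K ^ 2) (hK : Nat.card K = p ^ 2)
    (hroot : ∀ n : ℕ, (n : K) * n + n ≠ 1) : Module.finrank (ZMod p) V = 4 ∧ p = 13 := by
  have h7 := hS.p7
  have hp : p.Prime := Fact.out
  have hh2 : h = 2 := by
    by_contra hne
    obtain ⟨r, hr, hrs⟩ := exists_r h2 hne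
    have h3 := hS.small_q hb hr (by
      intro v hv
      apply hrs
      rw [← card_sg hh hv]
      exact hS.card_sg_LC v)
    rw [hK] at h3
    nlinarith
  subst hh2
  have hbb : bb K V = p ^ 2 := by rw [bb_eq hb, hK]
  have hV1 : Nat.card (V1 G l) = 0 := by
    have : IsEmpty (V1 G l) := ⟨fun v => by
      obtain ⟨v, hv, α, hα, hα1, hαv⟩ := v
      exact hα1 (hS.AA_free hb hα hv hαv)⟩
    exact Nat.card_of_isEmpty
  have c1 := hS.cover hh
  have c2 := hS.packing hh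
  rw [hV1] at c1
  have hn : Nat.card (T2 G l) + Nat.card (T3 G l) = p ^ 2 + 1 := by
    rw [hbb] at c1 c2
    set n := Nat.card (T2 G l) + Nat.card (T3 G l) with hn
    obtain ⟨Q, hQ⟩ : ∃ Q, p ^ 2 = Q + 1 := ⟨p ^ 2 - 1, by have : 7 ^ 2 ≤ p ^ 2 := Nat.pow_le_pow_left h7 2; omega⟩
    have hQpos : 0 < Q := by have : 7 ^ 2 ≤ p ^ 2 := Nat.pow_le_pow_left h7 2; omega
    rw [hQ] at c1 c2 ⊢
    have e1 : n * Q = (Q + 1 + 1) * Q := by nlinarith
    exact Nat.eq_of_mul_eq_mul_right hQpos e1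
  obtain ⟨i, hi⟩ := hS.exists_i hK
  have h3 : Nat.card (T2 G l) ≤ 30 := by
    rw [hS.card_T2]
    have := hS.card_S2 hb hi
    omega
  have h4 := hS.card_T3_le hh (P := p) hbb.symm (by omega)
  have h13 : p ≤ 13 := by nlinarith
  have hchar := hS.char
  have hcases : p = 7 ∨ p = 11 ∨ p = 13 := by
    clear hS hK hbb c1 c2 hn h3 h4 hV1 hh hroot hb hchar
    interval_cases p
    all_goals first
      | (exfalso; revert hp; norm_num; done)
      | simp
  have hfr : Module.finrank (ZMod p) V = 4 := by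
    rw [card_eq_pow (p := p), hK, ← pow_mul] at hb
    exact Nat.pow_right_injective hp.two_le hb
  rcases hcases with h5 | h5 | h5
  · exfalso
    have h50 : p ^ 2 = 49 := by rw [h5]; norm_num
    rw [h50, hS.card_T2] at hn
    rcases isEmpty_or_nonempty (T3 G l) with he | ⟨⟨t₀, ht₀, hn₀, h₀⟩⟩
    · rw [Nat.card_of_isEmpty (α := T3 G l)] at hn
      omega
    · rw [hS.card_T3 ht₀ hn₀ h₀] at hn
      have e1 := hS.N0_even hb ht₀
      by_cases hS0 : Nat.card {α : V ≃ₗ[ZMod p] V // α ∈ AA G l ∧ α * α = l (-1)} = 0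
      · omega
      · obtain ⟨⟨α, hα, hα2⟩⟩ : Nonempty {α : V ≃ₗ[ZMod p] V // α ∈ AA G l ∧ α * α = l (-1)} := by
          by_contra hne
          rw [not_nonempty_iff] at hne
          exact hS0 Nat.card_of_isEmpty
        have e2 := hS.N0_four hb h5 ht₀ hn₀ hα hα2
        omega
  · exfalso
    apply hroot 3
    have h1 : ((p : ℕ) : K) = 0 := CharP.cast_eq_zero K p
    rw [h5] at h1
    push_cast at h1 ⊢
    linear_combination h1
  · exact ⟨hfr, h5⟩

/-- **multiplicity one** -/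
theorem mult_one (hh : Half G h) (h2 : 2 ≤ h) (hb : Nat.card V = Nat.card K ^ 2) :
    (Module.finrank (ZMod p) V = 2 ∧ (p = 11 ∨ p = 19 ∨ p = 29)) ∨ (Module.finrank (ZMod p) V = 4 ∧ p = 13) := by
  rcases hS.card with hK | ⟨hK, hroot⟩
  · left; exact hS.mult_one_p hh h2 hb hK
  · right; exact hS.mult_one_q hh h2 hb hK hroot

end SetupQ

end setup

end Cfsg.Agent.H312.HT
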