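import Cfsg.Agent.H312.HT.Bound

/-!
# Multiplicity at least two is impossible (helper312, S3540)
-/

set_option autoImplicit false

namespace Cfsg.Agent.H312.HT

open Cfsg.Agent.H828.HT Cfsg.Agent.PermutationGroups.AutSL25 Matrix

universe u v

section setup

variable {p : ℕ} [Fact p.Prime] {V : Type u} [AddCommGroup V] [Module (ZMod p) V] [Finite V]
  {G : Subgroup (V ≃ₗ[ZMod p] V)} {h : ℕ} {K : Type v} [Field K] [Module (Matrix (Fin 2) (Fin 2) K) V]
  {j : SL25 →* Matrix.SpecialLinearGroup (Fin 2) K} {l : SL25 →* (V ≃ₗ[ZMod p] V)}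

/-- the vectors fixed by a non-trivial element of `AA` -/
def V1 (G : Subgroup (V ≃ₗ[ZMod p] V)) (l : SL25 →* (V ≃ₗ[ZMod p] V)) : Set V :=
  {v | v ≠ 0 ∧ ∃ α ∈ AA G l, α ≠ 1 ∧ α v = v}

/-- inner involutions -/
abbrev T2 (G : Subgroup (V ≃ₗ[ZMod p] V)) (l : SL25 →* (V ≃ₗ[ZMod p] V)) : Type u :=
  {g : V ≃ₗ[ZMod p] V // g ∈ LC G l ∧ g ∉ AA G l ∧ g * g = 1}

/-- outer involutions -/
abbrev T3 (G : Subgroup (V ≃ₗ[ZMod p] V)) (l : SL25 →* (V ≃ₗ[ZMod p] V)) : Type u :=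
  {g : V ≃ₗ[ZMod p] V // g ∈ G ∧ g ∉ LC G l ∧ g * g = 1}

theorem bb_pos : 0 < bb K V := by
  have : 0 < Nat.card V := Nat.card_pos
  rw [card_V_eq (K := K) (V := V)] at this
  exact Nat.pos_of_ne_zero fun h => by rw [h] at this; simp at this

/-- `B` as a subspace -/
def Bs (p : ℕ) [Fact p.Prime] (K : Type v) [Field K] (V : Type u) [AddCommGroup V] [Module (ZMod p) V]
    [Module (Matrix (Fin 2) (Fin 2) K) V] : Submodule (ZMod p) V := AddSubgroup.toZModSubmodule p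
  { carrier := {b | InB K b}
    zero_mem' := smul_zero _
    add_mem' := fun {a b} ha hb => by
      change (eu 0 0 : Matrix (Fin 2) (Fin 2) K) • (a + b) = a + b
      have ha' : (eu 0 0 : Matrix (Fin 2) (Fin 2) K) • a = a := ha
      have hb' : (eu 0 0 : Matrix (Fin 2) (Fin 2) K) • b = b := hb
      rw [smul_add, ha', hb']
    neg_mem' := fun {a} ha => by
      change (eu 0 0 : Matrix (Fin 2) (Fin 2) K) • (-a) = -a
      have ha' : (eu 0 0 : Matrix (Fin 2) (Fin 2) K) • a = a := ha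
      rw [smul_neg, ha'] }

omit [Finite V] in
theorem mem_Bs {b : V} : b ∈ Bs p K V ↔ InB K b := Iff.rfl

omit [Finite V] in
theorem card_Bs : Nat.card (Bs p K V) = bb K V := rfl

theorem bb_pow (hK : Nat.card K = p ^ 2) : ∃ b, bb K V = (p ^ b) ^ 2 := by
  have hp : p.Prime := Fact.out
  have : Finite K := Nat.finite_of_card_ne_zero (by rw [hK]; exact pow_ne_zero _ hp.ne_zero)
  let _ : Module K V := Module.compHom V (Matrix.scalar (Fin 2) : K →+* Matrix (Fin 2) (Fin 2) K)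
  let B : Submodule K V :=
    { carrier := {b | InB K b}
      zero_mem' := smul_zero _
      add_mem' := fun {a b} ha hb => by
        change (eu 0 0 : Matrix (Fin 2) (Fin 2) K) • (a + b) = a + b
        have ha' : (eu 0 0 : Matrix (Fin 2) (Fin 2) K) • a = a := ha
        have hb' : (eu 0 0 : Matrix (Fin 2) (Fin 2) K) • b = b := hb
        rw [smul_add, ha', hb']
      smul_mem' := fun c b hb => by
        change (eu 0 0 : Matrix (Fin 2) (Fin 2) K) • (Matrix.scalar (Fin 2) c • b) = Matrix.scalar (Fin 2) c • b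
        have hb' : (eu 0 0 : Matrix (Fin 2) (Fin 2) K) • b = b := hb
        have h1 : (eu 0 0 : Matrix (Fin 2) (Fin 2) K) * Matrix.scalar (Fin 2) c = Matrix.scalar (Fin 2) c * eu 0 0 :=
          (Matrix.scalar_commute c (fun _ => mul_comm _ _) _).symm
        rw [← mul_smul, h1, mul_smul, hb'] }
  have h1 : Nat.card B = Nat.card K ^ Module.finrank K B := Module.natCard_eq_pow_finrank
  exact ⟨Module.finrank K B, by change Nat.card B = _; rw [h1, hK, ← pow_mul, ← pow_mul, mul_comm]⟩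

theorem bb_ge [Finite K] {v : V} (hv : Rk2 K v) : Nat.card K ^ 2 ≤ bb K V := by
  rw [sq, ← Nat.card_prod]
  refine Nat.card_le_card_of_injective (fun z : K × K => (⟨(z.1 • eu 0 0 + z.2 • eu 0 1 : Matrix (Fin 2) (Fin 2) K) • v, by
    unfold InB
    rw [← mul_smul, mul_add, mul_smul_comm, mul_smul_comm, eu_mul, eu_mul, if_pos rfl, if_pos rfl]⟩ : {b : V // InB K b})) ?_
  rintro ⟨s, t⟩ ⟨s', t'⟩ h
  have h1 : (s • eu 0 0 + t • eu 0 1 : Matrix (Fin 2) (Fin 2) K) • v = (s' • eu 0 0 + t' • eu 0 1 : Matrix (Fin 2) (Fin 2) K) • v :=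
    congrArg Subtype.val h
  have h2 := hv.inj h1
  have h3 := congrFun (congrFun h2 0) 0
  have h4 := congrFun (congrFun h2 0) 1
  simp at h3 h4
  rw [h3, h4]

namespace SetupQ

variable (hS : SetupQ G K j l)

include hS

theorem card_fix_T2 (g : T2 G l) : Nat.card ({v | g.1 v = v} : Set V) = bb K V := by
  obtain ⟨g, ⟨x, α, hα, rfl⟩, h1, h2⟩ := g
  obtain ⟨h3, h4⟩ := (hS.inner_iff hα).1 ⟨h1, h2⟩
  have h5 := hS.card_fix_inner h3 hα h4
  rw [card_V_eq (K := K) (V := V)] at h5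
  exact Nat.pow_left_injective (n := 2) (by norm_num) h5

theorem card_fix_T3 (g : T3 G l) : Nat.card ({v | g.1 v = v} : Set V) = bb K V := by
  have h5 := hS.card_fix_outer g.2.1 g.2.2.1 g.2.2.2 ⊤ (fun _ _ => trivial) (fun _ _ => trivial)
  rw [Nat.card_congr (Equiv.subtypeUnivEquiv (α := V) (p := fun x => x ∈ (⊤ : Submodule (ZMod p) V)) fun _ => trivial),
    card_V_eq (K := K) (V := V)] at h5
  rw [← Nat.pow_left_injective (n := 2) (by norm_num) h5]
  exact Nat.card_congr (Equiv.subtypeEquivRight fun u => by simp)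

theorem cover (hh : Half G 2) :
    bb K V ^ 2 + (Nat.card (T2 G l) + Nat.card (T3 G l)) ≤
      Nat.card (V1 G l) + (Nat.card (T2 G l) + Nat.card (T3 G l)) * bb K V + 1 := by
  have hF := Fintype.ofFinite (T2 G l)
  have hF' := Fintype.ofFinite (T3 G l)
  have h1 := cover_sum (V := V) (ι := T2 G l ⊕ T3 G l)
    (Sum.elim (fun g => {v | g.1 v = v}) (fun g => {v | g.1 v = v})) (V1 G l) (by
      rintro (g | g)
      · exact map_zero _
      · exact map_zero _) (by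
      intro v hv
      have h2 := card_sg hh hv
      obtain ⟨g, hg, hg1⟩ : ∃ g ∈ sg G v, g ≠ 1 := by
        by_contra hcon
        push Not at hcon
        have h1 : sg G v = ⊥ := (Subgroup.eq_bot_iff_forall _).2 hcon
        rw [h1, Subgroup.card_bot] at h2
        omega
      by_cases hA : g ∈ AA G l
      · left; exact ⟨hv, g, hA, hg1, hg.2⟩
      · right
        have hsq := sq_of_fix hh hv hg.1 hg.2
        by_cases hL : g ∈ LC G l
        · exact ⟨Sum.inl ⟨g, hL, hA, hsq⟩, hg.2⟩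
        · exact ⟨Sum.inr ⟨g, hg.1, hL, hsq⟩, hg.2⟩)
  rw [Fintype.sum_sum_type, Fintype.card_sum] at h1
  simp only [Sum.elim_inl, Sum.elim_inr] at h1
  rw [Finset.sum_congr rfl (fun g _ => hS.card_fix_T2 g),
    Finset.sum_congr rfl (fun g _ => hS.card_fix_T3 g), Finset.sum_const, Finset.sum_const, Finset.card_univ,
    Finset.card_univ, smul_eq_mul, smul_eq_mul, card_V_eq (K := K) (V := V), ← Nat.card_eq_fintype_card,
    ← Nat.card_eq_fintype_card] at h1
  linarith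

theorem packing (hh : Half G 2) :
    (Nat.card (T2 G l) + Nat.card (T3 G l)) * bb K V + 1 ≤ bb K V ^ 2 + (Nat.card (T2 G l) + Nat.card (T3 G l)) := by
  have hF := Fintype.ofFinite (T2 G l)
  have hF' := Fintype.ofFinite (T3 G l)
  have hne2 : ∀ g : T2 G l, g.1 ∈ G ∧ g.1 ≠ 1 := fun g => ⟨hS.LC_le g.2.1, fun h => g.2.2.1 (by rw [h]; exact one_mem _)⟩
  have hne3 : ∀ g : T3 G l, g.1 ∈ G ∧ g.1 ≠ 1 := fun g => ⟨g.2.1, fun h => g.2.2.1 (by rw [h]; exact one_mem _)⟩
  have h1 := pack_sum (V := V) (ι := T2 G l ⊕ T3 G l)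
    (Sum.elim (fun g => {v | g.1 v = v}) (fun g => {v | g.1 v = v})) Set.univ trivial (fun _ => Set.subset_univ _) (by
      rintro (g | g)
      · exact map_zero _
      · exact map_zero _) (by
      rintro (g | g) (g' | g') hne v hv hv' <;> by_contra hv0
      · exact hne (congrArg Sum.inl (Subtype.ext (eq_of_fix hh hv0 (hne2 g).1 (hne2 g').1 (hne2 g).2 (hne2 g').2 hv hv')))
      · have := eq_of_fix hh hv0 (hne2 g).1 (hne3 g').1 (hne2 g).2 (hne3 g').2 hv hv'
        exact g'.2.2.1 (by rw [← this]; exact g.2.1)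
      · have := eq_of_fix hh hv0 (hne3 g).1 (hne2 g').1 (hne3 g).2 (hne2 g').2 hv hv'
        exact g.2.2.1 (by rw [this]; exact g'.2.1)
      · exact hne (congrArg Sum.inr (Subtype.ext (eq_of_fix hh hv0 (hne3 g).1 (hne3 g').1 (hne3 g).2 (hne3 g').2 hv hv'))))
  rw [Fintype.sum_sum_type, Fintype.card_sum] at h1
  simp only [Sum.elim_inl, Sum.elim_inr] at h1
  rw [Finset.sum_congr rfl (fun g _ => hS.card_fix_T2 g),
    Finset.sum_congr rfl (fun g _ => hS.card_fix_T3 g), Finset.sum_const, Finset.sum_const, Finset.card_univ,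
    Finset.card_univ, smul_eq_mul, smul_eq_mul, Nat.card_congr (Equiv.Set.univ V), card_V_eq (K := K) (V := V),
    ← Nat.card_eq_fintype_card, ← Nat.card_eq_fintype_card] at h1
  linarith

/-- the fixed space in `B` -/
theorem card_CB {α : V ≃ₗ[ZMod p] V} (hα : α ∈ AA G l) (h1 : α ≠ 1) :
    7 * Nat.card {b : V // InB K b ∧ α b = b} ≤ bb K V := by
  obtain ⟨b, hb, hb'⟩ := hS.exists_moved hα h1
  have hlt : Bs p K V ⊓ fx α < Bs p K V := by
    refine lt_of_le_of_ne inf_le_left fun h => hb' ?_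
    have h2 : b ∈ Bs p K V := hb
    rw [← h] at h2
    exact mem_fx.1 h2.2
  have h2 := Submodule.finrank_lt_finrank_of_lt hlt
  have h3 : Nat.card {b : V // InB K b ∧ α b = b} = Nat.card (Bs p K V ⊓ fx α : Submodule (ZMod p) V) :=
    Nat.card_congr (Equiv.subtypeEquivRight fun u => by
      rw [Submodule.mem_inf, mem_fx, mem_Bs])
  rw [h3, ← card_Bs (p := p), card_eq_pow (p := p), card_eq_pow (p := p) (Bs p K V)]
  have hp : 0 < p := (Fact.out : p.Prime).pos
  calc 7 * p ^ Module.finrank (ZMod p) (Bs p K V ⊓ fx α : Submodule (ZMod p) V) ≤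
      p * p ^ Module.finrank (ZMod p) (Bs p K V ⊓ fx α : Submodule (ZMod p) V) := Nat.mul_le_mul_right _ hS.p7
    _ = p ^ (Module.finrank (ZMod p) (Bs p K V ⊓ fx α : Submodule (ZMod p) V) + 1) := by rw [pow_succ, mul_comm]
    _ ≤ _ := Nat.pow_le_pow_right hp h2

theorem card_V1 (hh : Half G 2) : 7 * Nat.card (V1 G l) ≤ (bb K V - 1) * (7 + bb K V) := by
  let B0 := {b : V // InB K b ∧ b ≠ 0}
  have hB0 : Nat.card B0 = bb K V - 1 := by
    have h1 := card_nz ({b : V | InB K b}) (smul_zero _)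
    have h2 : Nat.card B0 + 1 = bb K V := h1
    omega
  let C : B0 → Type u := fun b₀ => {b : V // InB K b ∧ ∃ α ∈ AA G l, α ≠ 1 ∧ α b₀.1 = b₀.1 ∧ α b = b}
  have hF := Fintype.ofFinite B0
  have hC : ∀ b₀, 7 * Nat.card (C b₀) ≤ bb K V := by
    intro b₀
    by_cases hex : ∃ α ∈ AA G l, α ≠ 1 ∧ α b₀.1 = b₀.1
    · obtain ⟨α, hα, hα1, hαb⟩ := hex
      refine le_trans (Nat.mul_le_mul_left _ ?_) (hS.card_CB hα hα1)
      refine Nat.card_le_card_of_injective (fun b => ⟨b.1, b.2.1, ?_⟩) ?_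
      · obtain ⟨b, hb, α', hα', hα1', h2, h3⟩ := b
        rw [eq_of_fix hh b₀.2.2 (AA_le hα) (AA_le hα') hα1 hα1' hαb h2]
        exact h3
      · intro a b hab
        have h5 := congrArg Subtype.val hab
        exact Subtype.ext h5
    · have : IsEmpty (C b₀) := ⟨fun b => by
        obtain ⟨b, hb, α', hα', hα1', h2, h3⟩ := b
        exact hex ⟨α', hα', hα1', h2⟩⟩
      rw [Nat.card_of_isEmpty]
      omega
  have h1 : Nat.card (V1 G l) ≤ Nat.card (B0 ⊕ Σ b₀ : B0, C b₀) := by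
    have key : ∀ v : V1 G l, ∃ s : B0 ⊕ Σ b₀ : B0, C b₀,
        Sum.elim (fun b => vec K 0 b.1) (fun z => vec K z.1.1 z.2.1) s = v.1 := by
      rintro ⟨v, hv0, α, hα, hα1, hv⟩
      by_cases h0 : (eu 0 0 : Matrix (Fin 2) (Fin 2) K) • v = 0
      · refine ⟨Sum.inl ⟨(eu 0 1 : Matrix (Fin 2) (Fin 2) K) • v, inB_e01 v, fun h => hv0 ?_⟩, ?_⟩
        · rw [← vec_coord (K := K) v, h0, h]
          unfold vec
          rw [smul_zero, zero_add]
        · change vec K 0 _ = v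
          conv_rhs => rw [← vec_coord (K := K) v, h0]
      · refine ⟨Sum.inr ⟨⟨(eu 0 0 : Matrix (Fin 2) (Fin 2) K) • v, inB_e00 v, h0⟩,
          ⟨(eu 0 1 : Matrix (Fin 2) (Fin 2) K) • v, inB_e01 v, α, hα, hα1, ?_, ?_⟩⟩, vec_coord v⟩
        · rw [hS.comm_smul hα, hv]
        · rw [hS.comm_smul hα, hv]
    choose f hf using key
    refine Nat.card_le_card_of_injective f ?_
    intro v w hvw
    apply Subtype.ext
    rw [← hf v, ← hf w, hvw]
  rw [Nat.card_sum, Nat.card_sigma] at h1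
  have h2 : 7 * ∑ b₀ : B0, Nat.card (C b₀) ≤ (bb K V - 1) * bb K V := by
    rw [Finset.mul_sum, ← hB0, Nat.card_eq_fintype_card, ← Finset.card_univ, ← smul_eq_mul, ← Finset.sum_const]
    exact Finset.sum_le_sum fun b _ => hC b
  calc 7 * Nat.card (V1 G l) ≤ 7 * (Nat.card B0 + ∑ b₀ : B0, Nat.card (C b₀)) := Nat.mul_le_mul_left _ h1
    _ = (bb K V - 1) * 7 + 7 * ∑ b₀ : B0, Nat.card (C b₀) := by rw [hB0]; ring
    _ ≤ (bb K V - 1) * 7 + (bb K V - 1) * bb K V := by omega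
    _ = _ := by ring

theorem exists_i (hK : Nat.card K = p ^ 2) : ∃ i : K, i * i = -1 := by
  have := hS.fin
  have hF := Fintype.ofFinite K
  have h1 : IsSquare (-1 : K) := by
    rw [FiniteField.isSquare_neg_one_iff, ← Nat.card_eq_fintype_card, hK]
    have h7 := hS.p7
    have hodd : p % 2 = 1 := by
      rcases (Fact.out : p.Prime).eq_two_or_odd with h | h
      · omega
      · exact h
    have : p ^ 2 % 4 = 1 := by
      have h4 : p % 4 = 1 ∨ p % 4 = 3 := by omega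
      rw [Nat.pow_mod]
      rcases h4 with h | h <;> rw [h]
    omega
  obtain ⟨i, hi⟩ := h1
  exact ⟨i, hi.symm⟩

theorem card_T2_le (hh : Half G 2) (hK : Nat.card K = p ^ 2) {P : ℕ} (hP : P ^ 2 = bb K V) (hP2 : 2 ≤ P) :
    Nat.card (T2 G l) ≤ 15 * (P + 1) := by
  obtain ⟨i, hi⟩ := hS.exists_i hK
  rw [hS.card_T2]
  exact Nat.mul_le_mul_left _ (hS.card_S hh hi hP hP2)

theorem card_T3_le (hh : Half G 2) {P : ℕ} (hP : P ^ 2 = bb K V) (hP2 : 2 ≤ P) :
    Nat.card (T3 G l) ≤ 10 * (P + 1) := by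
  rcases isEmpty_or_nonempty (T3 G l) with h | ⟨⟨t₀, ht₀, hn₀, h₀⟩⟩
  · rw [Nat.card_of_isEmpty]; omega
  · rw [hS.card_T3 ht₀ hn₀ h₀]
    exact Nat.mul_le_mul_left _ (hS.card_N0 hh ht₀ hn₀ h₀ hP hP2)

/-- **there are no vectors of rank two** -/
theorem mult_two (hG : ¬ p ∣ Nat.card G) (hh : Half G h) (h2 : 2 ≤ h) {v : V} (hv : Rk2 K v) : False := by
  have hK := hS.card.resolve_left (hS.card_K hG hh h2 hv)
  obtain rfl := hS.h_eq_two hG hh h2 hv
  have := hS.fin
  obtain ⟨b, hb⟩ := bb_pow (V := V) hK.1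
  have hge := bb_ge hv
  rw [hK.1, hb] at hge
  have h7 := hS.p7
  have hP : p ^ 2 ≤ p ^ b := by
    by_contra hlt
    push Not at hlt
    exact absurd hge (not_le.2 (Nat.pow_lt_pow_left hlt (by norm_num)))
  set P := p ^ b with hPdef
  have h49 : 49 ≤ P := le_trans (by nlinarith) hP
  have h1 := hS.cover hh
  have h2 := hS.card_V1 hh
  have h3 := hS.card_T2_le hh hK.1 (P := P) hb.symm (by omega)
  have h4 := hS.card_T3_le hh (P := P) hb.symm (by omega)
  rw [hb] at h1 h2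
  obtain ⟨Q, hQ⟩ : ∃ Q, P ^ 2 = Q + 1 := ⟨P ^ 2 - 1, by have : 49 ^ 2 ≤ P ^ 2 := Nat.pow_le_pow_left h49 2; omega⟩
  rw [hQ] at h1 h2
  rw [Nat.add_sub_cancel] at h2
  set n := Nat.card (T2 G l) + Nat.card (T3 G l) with hn
  have h5 : n ≤ 25 * (P + 1) := by omega
  -- (Q+1)^2 + n ≤ V1 + n (Q+1) + 1
  have h6 : 7 * (Q * (Q + 2)) ≤ Q * (8 + Q) + 7 * (n * Q) := by nlinarith
  have h7' : Q * (7 * (Q + 2)) ≤ Q * ((8 + Q) + 7 * n) := by nlinarith
  have hQpos : 0 < Q := by have : 49 ^ 2 ≤ P ^ 2 := Nat.pow_le_pow_left h49 2; omega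
  have h8 := Nat.le_of_mul_le_mul_left h7' hQpos
  nlinarith

end SetupQ

end setup

end Cfsg.Agent.H312.HT
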