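import Cfsg.Agent.H312.HT.Inv

/-!
# Packings and coverings by fixed spaces; outer and inner involutions (helper312, S3540)
-/

set_option autoImplicit false

namespace Cfsg.Agent.H312.HT

open Cfsg.Agent.H828.HT Cfsg.Agent.PermutationGroups.AutSL25 Matrix

universe u v

section gen

variable {V : Type*} [Finite V] [Zero V]

theorem card_nz (F : Set V) (h0 : (0 : V) ∈ F) : Nat.card {v // v ∈ F ∧ v ≠ 0} + 1 = Nat.card F := by
  have h1 := Set.ncard_sdiff_singleton_add_one h0 (Set.toFinite F)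
  rw [← Nat.card_coe_set_eq, ← Nat.card_coe_set_eq] at h1
  exact h1

theorem pack_sum {ι : Type*} [Fintype ι] (F : ι → Set V) (U : Set V) (hU : (0 : V) ∈ U) (hF : ∀ i, F i ⊆ U)
    (h0 : ∀ i, (0 : V) ∈ F i) (hd : ∀ i i', i ≠ i' → ∀ v, v ∈ F i → v ∈ F i' → v = 0) :
    ∑ i, Nat.card (F i) + 1 ≤ Nat.card U + Fintype.card ι := by
  have h1 : ∑ i, Nat.card {v // v ∈ F i ∧ v ≠ 0} ≤ Nat.card {v // v ∈ U ∧ v ≠ 0} := by
    rw [← Nat.card_sigma]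
    refine Nat.card_le_card_of_injective (fun z => ⟨z.2.1, hF z.1 z.2.2.1, z.2.2.2⟩) ?_
    rintro ⟨i, v, hv, hv0⟩ ⟨i', w, hw, hw0⟩ hvw
    have h2 : v = w := congrArg Subtype.val hvw
    subst h2
    have h3 : i = i' := by
      by_contra hne
      exact hv0 (hd i i' hne v hv hw)
    subst h3
    rfl
  have h2 : ∑ i, Nat.card (F i) = ∑ i, Nat.card {v // v ∈ F i ∧ v ≠ 0} + Fintype.card ι := by
    rw [Finset.sum_congr rfl (fun i _ => (card_nz (F i) (h0 i)).symm), Finset.sum_add_distrib]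
    simp
  rw [h2, ← card_nz U hU]
  omega

theorem cover_sum {ι : Type*} [Fintype ι] (F : ι → Set V) (V1 : Set V) (h0 : ∀ i, (0 : V) ∈ F i)
    (hc : ∀ v, v ≠ 0 → v ∈ V1 ∨ ∃ i, v ∈ F i) :
    Nat.card V + Fintype.card ι ≤ Nat.card V1 + ∑ i, Nat.card (F i) + 1 := by
  classical
  have h1 : Nat.card {v : V // v ≠ 0} ≤ Nat.card V1 + ∑ i, Nat.card {v // v ∈ F i ∧ v ≠ 0} := by
    rw [← Nat.card_sigma, ← Nat.card_sum]
    have key : ∀ v : {v : V // v ≠ 0}, ∃ s : V1 ⊕ Σ i, {v // v ∈ F i ∧ v ≠ 0},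
        Sum.elim (fun x => x.1) (fun x => x.2.1) s = v.1 := by
      intro v
      rcases hc v.1 v.2 with h | ⟨i, h⟩
      · exact ⟨Sum.inl ⟨v.1, h⟩, rfl⟩
      · exact ⟨Sum.inr ⟨i, ⟨v.1, h, v.2⟩⟩, rfl⟩
    choose f hf using key
    refine Nat.card_le_card_of_injective f ?_
    intro v w hvw
    apply Subtype.ext
    rw [← hf v, ← hf w, hvw]
  have h2 : ∑ i, Nat.card (F i) = ∑ i, Nat.card {v // v ∈ F i ∧ v ≠ 0} + Fintype.card ι := by
    rw [Finset.sum_congr rfl (fun i _ => (card_nz (F i) (h0 i)).symm), Finset.sum_add_distrib]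
    simp
  have h3 : Nat.card {v : V // v ≠ 0} + 1 = Nat.card V := by
    have := card_nz (Set.univ : Set V) (Set.mem_univ 0)
    rw [Nat.card_congr (Equiv.Set.univ V)] at this
    rw [← this]
    congr 1
    exact Nat.card_congr (Equiv.subtypeEquivRight fun v => by simp)
  omega

end gen

section setup

variable {p : ℕ} [Fact p.Prime] {V : Type u} [AddCommGroup V] [Module (ZMod p) V] [Finite V]
  {G : Subgroup (V ≃ₗ[ZMod p] V)} {K : Type v} [Field K] [Module (Matrix (Fin 2) (Fin 2) K) V]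
  {j : SL25 →* Matrix.SpecialLinearGroup (Fin 2) K} {l : SL25 →* (V ≃ₗ[ZMod p] V)}

namespace SetupQ

variable (hS : SetupQ G K j l)

include hS

omit [Finite V] in
theorem central_of_AA {x : SL25} (hx : l x ∈ AA G l) : x = 1 ∨ x = -1 := by
  have h1 : ∀ y, x * y = y * x := by
    intro y
    apply hS.l_inj
    rw [map_mul, map_mul, (mem_AA.1 hx).2]
  exact mem_center_iff x ⟨h1 S, h1 T⟩

omit [Finite V] in
theorem l_neg_mem : l (-1) ∈ AA G l := by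
  rw [mem_AA]
  refine ⟨hS.mem _, fun y => ?_⟩
  rw [← map_mul, ← map_mul]; simp

omit [Finite V] hS in
theorem l_neg_sq : l (-1) * l (-1) = 1 := by rw [← map_mul]; simp

omit [Finite V] in
theorem AA_conj {t α : V ≃ₗ[ZMod p] V} (ht : t ∈ G) (hα : α ∈ AA G l) : t * α * t⁻¹ ∈ AA G l := by
  rw [mem_AA] at hα ⊢
  refine ⟨mul_mem (mul_mem ht hα.1) (inv_mem ht), fun x => ?_⟩
  obtain ⟨y, hy⟩ := hS.norm t⁻¹ (inv_mem ht) x
  rw [inv_inv] at hy
  have h1 : l x = t * l y * t⁻¹ := by rw [← hy]; group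
  rw [h1]
  calc t * l y * t⁻¹ * (t * α * t⁻¹) = t * (l y * α) * t⁻¹ := by group
    _ = t * (α * l y) * t⁻¹ := by rw [hα.2]
    _ = _ := by group

omit [Finite V] in
theorem inner_iff {x : SL25} {α : V ≃ₗ[ZMod p] V} (hα : α ∈ AA G l) :
    (l x * α ∉ AA G l ∧ (l x * α) * (l x * α) = 1) ↔ (x * x = -1 ∧ α * α = l (-1)) := by
  have hcomm := (mem_AA.1 hα).2 x
  have hprod : (l x * α) * (l x * α) = l (x * x) * (α * α) := by
    calc (l x * α) * (l x * α) = l x * (α * l x) * α := by group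
      _ = l x * (l x * α) * α := by rw [hcomm]
      _ = _ := by rw [map_mul]; group
  rw [hprod]
  constructor
  · rintro ⟨h1, h2⟩
    have h3 : l (x * x) = (α * α)⁻¹ := eq_inv_of_mul_eq_one_left h2
    have h4 : l (x * x) ∈ AA G l := by rw [h3]; exact inv_mem (mul_mem hα hα)
    rcases hS.central_of_AA h4 with h5 | h5
    · exfalso
      apply h1
      by_cases hx : x = 1
      · rw [hx, map_one, one_mul]; exact hα
      · rw [eq_neg_one _ h5 hx]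
        exact mul_mem hS.l_neg_mem hα
    · refine ⟨h5, ?_⟩
      rw [h5] at h3
      have h6 : (α * α)⁻¹ = (l (-1))⁻¹ := by
        rw [← h3, eq_inv_iff_mul_eq_one]
        exact l_neg_sq
      exact _root_.inv_inj.1 h6
  · rintro ⟨h1, h2⟩
    refine ⟨fun h3 => ?_, by rw [h1, h2]; exact l_neg_sq⟩
    have h4 : l x ∈ AA G l := (Subgroup.mul_mem_cancel_right _ hα).1 h3
    rcases hS.central_of_AA h4 with h5 | h5
    · rw [h5, mul_one] at h1; exact neg_one_ne h1.symm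
    · rw [h5] at h1
      have : (-1 : SL25) * -1 = 1 := by simp
      rw [this] at h1
      exact neg_one_ne h1.symm

/-- the number of inner involutions -/
theorem card_T2 : Nat.card {g : V ≃ₗ[ZMod p] V // g ∈ LC G l ∧ g ∉ AA G l ∧ g * g = 1} =
    15 * Nat.card {α : V ≃ₗ[ZMod p] V // α ∈ AA G l ∧ α * α = l (-1)} := by
  have h1 := hS.card_pairs (fun g => g ∉ AA G l ∧ g * g = 1)
  have e1 : {z : SL25 × AA G l // l z.1 * z.2 ∉ AA G l ∧ (l z.1 * z.2) * (l z.1 * z.2) = 1} ≃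
      {x : SL25 // x * x = -1} × {α : V ≃ₗ[ZMod p] V // α ∈ AA G l ∧ α * α = l (-1)} :=
    { toFun := fun z => (⟨z.1.1, ((hS.inner_iff z.1.2.2).1 z.2).1⟩, ⟨z.1.2, z.1.2.2, ((hS.inner_iff z.1.2.2).1 z.2).2⟩)
      invFun := fun z => ⟨(z.1.1, ⟨z.2.1, z.2.2.1⟩), (hS.inner_iff z.2.2.1).2 ⟨z.1.2, z.2.2.2⟩⟩
      left_inv := fun z => rfl
      right_inv := fun z => rfl }
  have e2 : {g : LC G l // (g : V ≃ₗ[ZMod p] V) ∉ AA G l ∧ (g : V ≃ₗ[ZMod p] V) * g = 1} ≃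
      {g : V ≃ₗ[ZMod p] V // g ∈ LC G l ∧ g ∉ AA G l ∧ g * g = 1} :=
    ⟨fun g => ⟨g.1.1, g.1.2, g.2⟩, fun g => ⟨⟨g.1, g.2.1⟩, g.2.2⟩, fun g => rfl, fun g => rfl⟩
  rw [Nat.card_congr e1, Nat.card_congr e2, Nat.card_prod, Nat.card_eq_fintype_card (α := {x : SL25 // x * x = -1}),
    F.card_four] at h1
  omega

omit [Finite V] in
theorem outer_iff {t₀ : V ≃ₗ[ZMod p] V} (ht₀ : t₀ ∈ G) (h₀ : t₀ * t₀ = 1) {ψ : SL25 →* SL25}
    (hψ : ∀ x, t₀ * l x * t₀⁻¹ = l (ψ x)) (hneg : ∀ x, ψ x * x ≠ -1) {x : SL25} {α : V ≃ₗ[ZMod p] V}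
    (hα : α ∈ AA G l) :
    (l x * α * t₀) * (l x * α * t₀) = 1 ↔ (ψ x * x = 1 ∧ α * (t₀ * α * t₀⁻¹) = 1) := by
  have hcomm := (mem_AA.1 hα).2 (ψ x)
  have hprod : (l x * α * t₀) * (l x * α * t₀) = l (x * ψ x) * (α * (t₀ * α * t₀⁻¹)) := by
    have h1 : t₀ = t₀⁻¹ := eq_inv_of_mul_eq_one_left h₀
    calc (l x * α * t₀) * (l x * α * t₀) = l x * α * (t₀ * l x * t₀⁻¹) * (t₀ * α * t₀⁻¹) * (t₀ * t₀) := by group
      _ = l x * (α * l (ψ x)) * (t₀ * α * t₀⁻¹) := by rw [hψ, h₀]; group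
      _ = l x * (l (ψ x) * α) * (t₀ * α * t₀⁻¹) := by rw [hcomm]
      _ = _ := by rw [map_mul]; group
  have hAt := hS.AA_conj ht₀ hα
  rw [hprod]
  constructor
  · intro h2
    have h3 : l (x * ψ x) = (α * (t₀ * α * t₀⁻¹))⁻¹ := eq_inv_of_mul_eq_one_left h2
    have h4 : l (x * ψ x) ∈ AA G l := by rw [h3]; exact inv_mem (mul_mem hα hAt)
    have hconj : ψ x * x = x⁻¹ * (x * ψ x) * x := by group
    rcases hS.central_of_AA h4 with h5 | h5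
    · refine ⟨by rw [hconj, h5]; group, ?_⟩
      rwa [h5, map_one, one_mul] at h2
    · exact absurd (by rw [hconj, h5]; simp) (hneg x)
  · rintro ⟨h1, h2⟩
    have h3 : x * ψ x = x * (ψ x * x) * x⁻¹ := by group
    rw [h3, h1, h2, mul_one, mul_one, mul_inv_cancel, map_one]

omit [Finite V] in
/-- an outer involution -/
theorem outer_data {t₀ : V ≃ₗ[ZMod p] V} (ht₀ : t₀ ∈ G) (hn₀ : t₀ ∉ LC G l) (h₀ : t₀ * t₀ = 1) :
    ∃ ψ : SL25 →* SL25, (∀ x, t₀ * l x * t₀⁻¹ = l (ψ x)) ∧ (∀ x, ψ x * x ≠ -1) ∧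
      Nat.card {x : SL25 // ψ x * x = 1} = 20 := by
  obtain ⟨ψ, hψ, hi⟩ := hS.exists_psi ht₀
  obtain ⟨w, hw⟩ := hS.outer_of_not_mem ht₀ hn₀ hψ hi
  have h2 : ∀ x, ψ (ψ x) = x := by
    intro x
    apply hS.l_inj
    rw [← hψ, ← hψ]
    have h1 : t₀ = t₀⁻¹ := eq_inv_of_mul_eq_one_left h₀
    calc t₀ * (t₀ * l x * t₀⁻¹) * t₀⁻¹ = (t₀ * t₀) * l x * (t₀ * t₀)⁻¹ := by group
      _ = l x := by rw [h₀]; group
  have h3 := F.W_inv w (F.outer_invol hw h2)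
  refine ⟨ψ, hψ, fun x => by rw [hw]; exact h3.2 x, ?_⟩
  rw [← h3.1, Nat.card_eq_fintype_card]
  exact Fintype.card_congr (Equiv.subtypeEquivRight fun x => by rw [hw])

/-- the number of outer involutions -/
theorem card_T3 {t₀ : V ≃ₗ[ZMod p] V} (ht₀ : t₀ ∈ G) (hn₀ : t₀ ∉ LC G l) (h₀ : t₀ * t₀ = 1) :
    Nat.card {t : V ≃ₗ[ZMod p] V // t ∈ G ∧ t ∉ LC G l ∧ t * t = 1} =
    10 * Nat.card {α : V ≃ₗ[ZMod p] V // α ∈ AA G l ∧ α * (t₀ * α * t₀⁻¹) = 1} := by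
  obtain ⟨ψ, hψ, hneg, hc⟩ := hS.outer_data ht₀ hn₀ h₀
  have h1 := hS.card_pairs (fun g => (g * t₀) * (g * t₀) = 1)
  have e1 : {z : SL25 × AA G l // (l z.1 * z.2 * t₀) * (l z.1 * z.2 * t₀) = 1} ≃
      {x : SL25 // ψ x * x = 1} × {α : V ≃ₗ[ZMod p] V // α ∈ AA G l ∧ α * (t₀ * α * t₀⁻¹) = 1} :=
    { toFun := fun z => (⟨z.1.1, ((hS.outer_iff ht₀ h₀ hψ hneg z.1.2.2).1 z.2).1⟩,
        ⟨z.1.2, z.1.2.2, ((hS.outer_iff ht₀ h₀ hψ hneg z.1.2.2).1 z.2).2⟩)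
      invFun := fun z => ⟨(z.1.1, ⟨z.2.1, z.2.2.1⟩), (hS.outer_iff ht₀ h₀ hψ hneg z.2.2.1).2 ⟨z.1.2, z.2.2.2⟩⟩
      left_inv := fun z => rfl
      right_inv := fun z => rfl }
  have hinv : t₀⁻¹ = t₀ := inv_eq_of_mul_eq_one_left h₀
  have e2 : {g : LC G l // ((g : V ≃ₗ[ZMod p] V) * t₀) * (g * t₀) = 1} ≃
      {t : V ≃ₗ[ZMod p] V // t ∈ G ∧ t ∉ LC G l ∧ t * t = 1} :=
    { toFun := fun g => ⟨g.1.1 * t₀, mul_mem (hS.LC_le g.1.2) ht₀, fun h =>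
        hn₀ ((Subgroup.mul_mem_cancel_left _ g.1.2).1 h), g.2⟩
      invFun := fun t => ⟨⟨t.1 * t₀, hS.mul_mem_LC t.2.1 ht₀ t.2.2.1 hn₀⟩, by
        change (t.1 * t₀ * t₀) * (t.1 * t₀ * t₀) = 1
        rw [mul_assoc t.1, h₀, mul_one]
        exact t.2.2.2⟩
      left_inv := fun g => by
        apply Subtype.ext; apply Subtype.ext
        change g.1.1 * t₀ * t₀ = g.1.1
        rw [mul_assoc, h₀, mul_one]
      right_inv := fun t => by
        apply Subtype.ext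
        change t.1 * t₀ * t₀ = t.1
        rw [mul_assoc, h₀, mul_one] }
  rw [Nat.card_congr e1, Nat.card_congr e2, Nat.card_prod, hc] at h1
  omega

end SetupQ

end setup

end Cfsg.Agent.H312.HT
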