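import Cfsg.Agent.H312.HT.RankA

/-!
# Vectors of rank two (helper312, S3540)
-/

set_option autoImplicit false

namespace Cfsg.Agent.H312.HT

open Cfsg.Agent.H828.HT Cfsg.Agent.PermutationGroups.AutSL25 Matrix

universe u v

section mats

variable {K : Type v} [Field K]

theorem scalar_of_comm {P : Matrix (Fin 2) (Fin 2) K} (h : ∀ M, P * M = M * P) : P = P 0 0 • 1 := by
  have h1 := h (eu 0 1)
  have h2 := h (eu 1 0)
  have a1 := congrFun (congrFun h1 0) 1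
  have a2 := congrFun (congrFun h1 1) 1
  have a3 := congrFun (congrFun h2 0) 0
  simp [Matrix.mul_apply, Fin.sum_univ_two, Matrix.single] at a1 a2 a3
  apply mat_ext <;> simp
  · exact a3
  · exact a2
  · exact a1.symm

variable {φ : Matrix (Fin 2) (Fin 2) K →+* Matrix (Fin 2) (Fin 2) K}

theorem phi_scalar [Finite K] (hφ : Function.Injective φ) (c : K) : ∃ c' : K, φ (c • 1) = c' • 1 := by
  have hs : Function.Surjective φ := Finite.surjective_of_injective hφ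
  refine ⟨_, scalar_of_comm fun M => ?_⟩
  obtain ⟨N, rfl⟩ := hs M
  rw [← map_mul, ← map_mul, smul_mul_assoc, one_mul, mul_smul_comm, mul_one]

theorem phi_sl [Finite K] (hφ : Function.Injective φ) (u : Matrix.SpecialLinearGroup (Fin 2) K) :
    ∃ w : Matrix.SpecialLinearGroup (Fin 2) K, φ u = w := by
  suffices h : (φ u).det = 1 from ⟨⟨φ u, h⟩, rfl⟩
  obtain ⟨c, hc⟩ := phi_scalar hφ (u 0 0 + u 1 1)
  set N := φ u with hN
  have h1 : N * N = c • N - 1 := by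
    rw [hN, ← map_mul, sl_sq, map_sub, map_one]
    congr 1
    have h2 : (u 0 0 + u 1 1) • (u : Matrix (Fin 2) (Fin 2) K) = ((u 0 0 + u 1 1) • 1) * u := by
      rw [smul_mul_assoc, one_mul]
    rw [h2, map_mul, hc, smul_mul_assoc, one_mul]
  have e00 := congrFun (congrFun h1 0) 0
  have e01 := congrFun (congrFun h1 0) 1
  have e10 := congrFun (congrFun h1 1) 0
  have e11 := congrFun (congrFun h1 1) 1
  simp [Matrix.mul_apply, Fin.sum_univ_two] at e00 e01 e10 e11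
  rw [Matrix.det_fin_two]
  by_cases hs : N 0 1 = 0 ∧ N 1 0 = 0 ∧ N 0 0 = N 1 1
  · obtain ⟨h01, h10, h00⟩ := hs
    -- `N` is scalar
    have hsc : N = N 0 0 • 1 := by
      apply mat_ext <;> simp [h01, h10, ← h00]
    have hu : ∀ M : Matrix (Fin 2) (Fin 2) K, (u : Matrix (Fin 2) (Fin 2) K) * M = M * u := by
      intro M
      apply hφ
      rw [map_mul, map_mul, ← hN, hsc, smul_mul_assoc, mul_smul_comm, one_mul, mul_one]
    have hu2 := scalar_of_comm hu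
    have hdet := sl_det u
    have u01 := congrFun (congrFun hu2 0) 1
    have u11 := congrFun (congrFun hu2 1) 1
    simp at u01 u11
    rw [u01, u11, zero_mul, sub_zero] at hdet
    have h3 : (u : Matrix (Fin 2) (Fin 2) K) * u = 1 := by
      rw [hu2, smul_mul_smul_comm, one_mul, hdet, one_smul]
    have h4 : N * N = 1 := by rw [hN, ← map_mul, h3, map_one]
    have h5 := congrFun (congrFun h4 0) 0
    simp [Matrix.mul_apply, Fin.sum_univ_two, h01] at h5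
    rw [h01, zero_mul, sub_zero, ← h00, h5]
  · have htr : N 0 0 + N 1 1 = c := by
      by_contra hne
      have hne' := sub_ne_zero.2 hne
      apply hs
      refine ⟨?_, ?_, ?_⟩
      · have : (N 0 0 + N 1 1 - c) * N 0 1 = 0 := by linear_combination e01
        exact (mul_eq_zero.1 this).resolve_left hne'
      · have : (N 0 0 + N 1 1 - c) * N 1 0 = 0 := by linear_combination e10
        exact (mul_eq_zero.1 this).resolve_left hne'
      · have : (N 0 0 + N 1 1 - c) * (N 0 0 - N 1 1) = 0 := by linear_combination e00 - e11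
        exact sub_eq_zero.1 ((mul_eq_zero.1 this).resolve_left hne')
    rw [← htr] at e00
    linear_combination -e00

end mats

section setup

variable {p : ℕ} [Fact p.Prime] {V : Type u} [AddCommGroup V] [Module (ZMod p) V] [Finite V]
  {G : Subgroup (V ≃ₗ[ZMod p] V)} {h : ℕ} {K : Type v} [Field K] [Module (Matrix (Fin 2) (Fin 2) K) V]
  {j : SL25 →* Matrix.SpecialLinearGroup (Fin 2) K} {l : SL25 →* (V ≃ₗ[ZMod p] V)}

/-- the orbit of `v` under `SL₂(K)` -/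
def XX (K : Type v) [Field K] [Module (Matrix (Fin 2) (Fin 2) K) V] (v : V) : Set V :=
  {w | ∃ u : Matrix.SpecialLinearGroup (Fin 2) K, w = (u : Matrix (Fin 2) (Fin 2) K) • v}

theorem card_XX {v : V} (hv : Rk2 K v) : Nat.card (XX K v) = Nat.card (Matrix.SpecialLinearGroup (Fin 2) K) := by
  refine (Nat.card_congr (Equiv.ofBijective (fun u : Matrix.SpecialLinearGroup (Fin 2) K =>
    (⟨(u : Matrix (Fin 2) (Fin 2) K) • v, u, rfl⟩ : XX K v)) ⟨?_, ?_⟩)).symm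
  · intro a b hab
    have h1 := congrArg Subtype.val hab
    exact Subtype.ext (hv.inj h1)
  · rintro ⟨w, u, rfl⟩
    exact ⟨u, rfl⟩

/-- the stabiliser of `XX K v` in `G` -/
def G1 (G : Subgroup (V ≃ₗ[ZMod p] V)) (X : Set V) : Subgroup (V ≃ₗ[ZMod p] V) where
  carrier := {g | g ∈ G ∧ ∀ w, g w ∈ X ↔ w ∈ X}
  one_mem' := ⟨one_mem _, fun w => Iff.rfl⟩
  mul_mem' := by
    rintro a b ⟨ha, ha'⟩ ⟨hb, hb'⟩
    exact ⟨mul_mem ha hb, fun w => by rw [LinearEquiv.mul_apply, ha', hb']⟩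
  inv_mem' := by
    rintro a ⟨ha, ha'⟩
    refine ⟨inv_mem ha, fun w => ?_⟩
    rw [← ha', ← LinearEquiv.mul_apply, mul_inv_cancel]; rfl

theorem mem_G1 {X : Set V} {g : V ≃ₗ[ZMod p] V} : g ∈ G1 G X ↔ g ∈ G ∧ ∀ w, g w ∈ X ↔ w ∈ X := Iff.rfl

namespace SetupQ

variable (hS : SetupQ G K j l)

include hS

omit [Finite V] in
theorem restrict {H : Subgroup (V ≃ₗ[ZMod p] V)} (hH : H ≤ G) (hm : ∀ x, l x ∈ H) : SetupQ H K j l where
  p7 := hS.p7
  char := hS.char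
  fin := hS.fin
  card := hS.card
  nontriv := hS.nontriv
  jinj := hS.jinj
  act := hS.act
  mem := hm
  norm := fun g hg x => hS.norm g (hH hg) x
  span := hS.span

omit [Finite V] in
theorem mem_G1_of_fix {v w : V} (hw : w ∈ XX K v) {g : V ≃ₗ[ZMod p] V} (hg : g ∈ G) (hgw : g w = w) :
    g ∈ G1 G (XX K v) := by
  have := hS.fin
  obtain ⟨u, rfl⟩ := hw
  have key : ∀ g : V ≃ₗ[ZMod p] V, g ∈ G → g ((u : Matrix (Fin 2) (Fin 2) K) • v) = (u : Matrix (Fin 2) (Fin 2) K) • v →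
      ∀ w ∈ XX K v, g w ∈ XX K v := by
    rintro g hg hgw _ ⟨u', rfl⟩
    obtain ⟨ψ, hψ, -⟩ := hS.exists_psi hg
    obtain ⟨φ, hφ, -, hi⟩ := hS.exists_phi hψ
    obtain ⟨z, hz⟩ := phi_sl hi (u' * u⁻¹)
    refine ⟨z * u, ?_⟩
    have h1 : (u' : Matrix (Fin 2) (Fin 2) K) • v =
        ((u' * u⁻¹ : Matrix.SpecialLinearGroup (Fin 2) K) : Matrix (Fin 2) (Fin 2) K) • (u : Matrix (Fin 2) (Fin 2) K) • v := by
      rw [← mul_smul, ← Matrix.SpecialLinearGroup.coe_mul, inv_mul_cancel_right]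
    rw [h1, hφ, hgw, hz, ← mul_smul, ← Matrix.SpecialLinearGroup.coe_mul]
  refine ⟨hg, fun w => ⟨fun hw => ?_, key g hg hgw w⟩⟩
  have h2 := key g⁻¹ (inv_mem hg) (by
    conv_lhs => rw [← hgw]
    rw [← LinearEquiv.mul_apply, inv_mul_cancel]; rfl) (g w) hw
  rw [← LinearEquiv.mul_apply, inv_mul_cancel] at h2
  exact h2

omit [Finite V] in
theorem l_mem_G1 (v : V) (x : SL25) : l x ∈ G1 G (XX K v) := by
  have key : ∀ y : SL25, ∀ w ∈ XX K v, l y w ∈ XX K v := by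
    rintro y _ ⟨u, rfl⟩
    refine ⟨j y * u, ?_⟩
    rw [hS.act, ← mul_smul, Matrix.SpecialLinearGroup.coe_mul]
  refine ⟨hS.mem x, fun w => ⟨fun hw => ?_, key x w⟩⟩
  have h2 := key x⁻¹ _ hw
  rw [map_inv, ← LinearEquiv.mul_apply, inv_mul_cancel] at h2
  exact h2

omit [Finite V] in
/-- `α` fixes `u • v` iff it fixes `v` -/
theorem AA_fix {α : V ≃ₗ[ZMod p] V} (hα : α ∈ AA G l) (u : Matrix.SpecialLinearGroup (Fin 2) K) (v : V) :
    α ((u : Matrix (Fin 2) (Fin 2) K) • v) = (u : Matrix (Fin 2) (Fin 2) K) • v ↔ α v = v := by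
  rw [hS.comm_smul hα]
  constructor
  · intro h
    have h1 := congrArg (fun w => ((u⁻¹ : Matrix.SpecialLinearGroup (Fin 2) K) : Matrix (Fin 2) (Fin 2) K) • w) h
    simp only [← mul_smul] at h1
    rw [← Matrix.SpecialLinearGroup.coe_mul, inv_mul_cancel, Matrix.SpecialLinearGroup.coe_one, one_smul, one_smul] at h1
    exact h1
  · intro h; rw [h]

/-- the elements of `AA` which map `v` into `XX K v` -/
theorem mem_AA_G1 {v : V} {α : V ≃ₗ[ZMod p] V} : α ∈ AA (G1 G (XX K v)) l ↔ α ∈ AA G l ∧ α v ∈ XX K v := by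
  constructor
  · intro hα
    rw [mem_AA] at hα
    refine ⟨mem_AA.2 ⟨hα.1.1, hα.2⟩, (hα.1.2 v).2 ⟨1, ?_⟩⟩
    rw [Matrix.SpecialLinearGroup.coe_one, one_smul]
  · rintro ⟨hα, y, hy⟩
    rw [mem_AA]
    refine ⟨⟨AA_le hα, fun w => ?_⟩, (mem_AA.1 hα).2⟩
    constructor
    · rintro ⟨u, hu⟩
      refine ⟨u * y⁻¹, ?_⟩
      apply α.injective
      rw [hu, hS.comm_smul hα, hy, ← mul_smul, ← Matrix.SpecialLinearGroup.coe_mul, inv_mul_cancel_right]
    · rintro ⟨u, rfl⟩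
      refine ⟨u * y, ?_⟩
      rw [hS.comm_smul hα, hy, ← mul_smul, ← Matrix.SpecialLinearGroup.coe_mul]

theorem neg_mem_AA : l (-1) ∈ AA G l := by
  rw [mem_AA]
  refine ⟨hS.mem _, fun y => ?_⟩
  rw [← map_mul, ← map_mul]; simp

/-- `|A₁'| + 2 |D| ≤ |A₁|` -/
theorem card_A1' {v : V} (hv : Rk2 K v) :
    Nat.card {α : AA (G1 G (XX K v)) l // (α : V ≃ₗ[ZMod p] V) v ≠ v ∧ (α : V ≃ₗ[ZMod p] V) v ≠ -v} +
      2 * Nat.card (sg (AA G l) v) ≤ Nat.card (AA (G1 G (XX K v)) l) := by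
  have hv0 := hv.ne_zero
  have h2v : v ≠ -v := by
    intro h
    have h1 : (2 : Matrix (Fin 2) (Fin 2) K) • v = 0 := by
      rw [two_smul]
      nth_rewrite 2 [h]
      exact add_neg_cancel v
    have h2 := congrFun (congrFun (hv _ h1) 0) 0
    simp at h2
    exact hS.two_ne h2
  have hb : Nat.card (Bool × sg (AA G l) v) = 2 * Nat.card (sg (AA G l) v) := by
    rw [Nat.card_prod, Nat.card_eq_fintype_card, Fintype.card_bool]
  rw [← hb, ← Nat.card_sum]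
  have hmem : ∀ δ ∈ sg (AA G l) v, δ ∈ AA (G1 G (XX K v)) l := fun δ hδ => hS.mem_AA_G1.2 ⟨hδ.1, 1, by
    rw [Matrix.SpecialLinearGroup.coe_one, one_smul]; exact hδ.2⟩
  have hneg : l (-1) ∈ AA (G1 G (XX K v)) l := hS.mem_AA_G1.2 ⟨hS.neg_mem_AA, -1, by
    rw [hS.act, hS.j_neg]⟩
  let f : {α : AA (G1 G (XX K v)) l // (α : V ≃ₗ[ZMod p] V) v ≠ v ∧ (α : V ≃ₗ[ZMod p] V) v ≠ -v} ⊕
      (Bool × sg (AA G l) v) → AA (G1 G (XX K v)) l := fun z => match z with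
    | Sum.inl α => α.1
    | Sum.inr (true, δ) => ⟨δ, hmem δ δ.2⟩
    | Sum.inr (false, δ) => ⟨l (-1) * δ, mul_mem hneg (hmem δ δ.2)⟩
  have ht : ∀ δ : sg (AA G l) v, ((f (Sum.inr (true, δ)) : AA (G1 G (XX K v)) l) : V ≃ₗ[ZMod p] V) v = v := fun δ => δ.2.2
  have hf : ∀ δ : sg (AA G l) v, ((f (Sum.inr (false, δ)) : AA (G1 G (XX K v)) l) : V ≃ₗ[ZMod p] V) v = -v := fun δ => by
    change l (-1) ((δ : V ≃ₗ[ZMod p] V) v) = -v
    rw [δ.2.2, hS.l_neg]
  refine Nat.card_le_card_of_injective f ?_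
  rintro (α | ⟨a, δ⟩) (β | ⟨b, ε⟩) hab
  · exact congrArg Sum.inl (Subtype.ext hab)
  · exfalso
    have h1 : ((α.1 : AA (G1 G (XX K v)) l) : V ≃ₗ[ZMod p] V) v = ((f (Sum.inr (b, ε)) : AA (G1 G (XX K v)) l) : V ≃ₗ[ZMod p] V) v :=
      congrArg (fun g : AA (G1 G (XX K v)) l => (g : V ≃ₗ[ZMod p] V) v) hab
    cases b
    · rw [hf] at h1; exact α.2.2 h1
    · rw [ht] at h1; exact α.2.1 h1
  · exfalso
    have h1 : ((f (Sum.inr (a, δ)) : AA (G1 G (XX K v)) l) : V ≃ₗ[ZMod p] V) v = ((β.1 : AA (G1 G (XX K v)) l) : V ≃ₗ[ZMod p] V) v :=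
      congrArg (fun g : AA (G1 G (XX K v)) l => (g : V ≃ₗ[ZMod p] V) v) hab
    cases a
    · rw [hf] at h1; exact β.2.2 h1.symm
    · rw [ht] at h1; exact β.2.1 h1.symm
  · have h1 := congrArg (fun g : AA (G1 G (XX K v)) l => (g : V ≃ₗ[ZMod p] V) v) hab
    have h2 := congrArg (fun g : AA (G1 G (XX K v)) l => (g : V ≃ₗ[ZMod p] V)) hab
    cases a <;> cases b
    · have h3 : l (-1) * (δ : V ≃ₗ[ZMod p] V) = l (-1) * ε := h2
      rw [Subtype.ext (mul_left_cancel h3)]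
    · exfalso
      have h4 : -v = v := by
        have := h1
        simp only [hf, ht] at this
        exact this
      exact h2v h4.symm
    · exfalso
      have h4 : v = -v := by
        have := h1
        simp only [hf, ht] at this
        exact this
      exact h2v h4
    · have h3 : (δ : V ≃ₗ[ZMod p] V) = ε := h2
      rw [Subtype.ext h3]

/-- the triples with `x = ±1` -/
theorem card_T3a {v : V} :
    Nat.card {z : (Matrix.SpecialLinearGroup (Fin 2) K) × (SL25 × AA G l) //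
      (l z.2.1 * (z.2.2 : V ≃ₗ[ZMod p] V)) ((z.1 : Matrix (Fin 2) (Fin 2) K) • v) = (z.1 : Matrix (Fin 2) (Fin 2) K) • v ∧
        (z.2.1 = 1 ∨ z.2.1 = -1)} ≤
      2 * Nat.card (sg (AA G l) v) * Nat.card (Matrix.SpecialLinearGroup (Fin 2) K) := by
  have := hS.finSL
  have hb : Nat.card ((Bool × sg (AA G l) v) × (Matrix.SpecialLinearGroup (Fin 2) K)) =
      2 * Nat.card (sg (AA G l) v) * Nat.card (Matrix.SpecialLinearGroup (Fin 2) K) := by
    rw [Nat.card_prod, Nat.card_prod, Nat.card_eq_fintype_card (α := Bool), Fintype.card_bool]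
  rw [← hb]
  have key : ∀ z : {z : (Matrix.SpecialLinearGroup (Fin 2) K) × (SL25 × AA G l) //
      (l z.2.1 * (z.2.2 : V ≃ₗ[ZMod p] V)) ((z.1 : Matrix (Fin 2) (Fin 2) K) • v) = (z.1 : Matrix (Fin 2) (Fin 2) K) • v ∧
        (z.2.1 = 1 ∨ z.2.1 = -1)}, l z.1.2.1 * (z.1.2.2 : V ≃ₗ[ZMod p] V) ∈ sg (AA G l) v := by
    rintro ⟨⟨u, x, α⟩, h1, h2⟩
    have h3 : l x * (α : V ≃ₗ[ZMod p] V) ∈ AA G l := by
      rcases h2 with h2 | h2
      · have h4 : x = 1 := h2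
        rw [h4, map_one, one_mul]; exact α.2
      · have h4 : x = -1 := h2
        rw [h4]; exact mul_mem hS.neg_mem_AA α.2
    exact ⟨h3, (hS.AA_fix h3 u v).1 h1⟩
  refine Nat.card_le_card_of_injective (fun z => ((decide (z.1.2.1 = 1), ⟨_, key z⟩), z.1.1)) ?_
  rintro ⟨⟨u, x, α⟩, h1, h2⟩ ⟨⟨u', x', α'⟩, h1', h2'⟩ hab
  simp only [Prod.mk.injEq, decide_eq_decide, Subtype.mk.injEq] at hab
  obtain ⟨⟨e1, e2⟩, e3⟩ := hab
  have hx : x = x' := by
    rcases h2 with h2 | h2 <;> rcases h2' with h2' | h2'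
    · exact h2.trans h2'.symm
    · exact (h2.trans (e1.1 h2).symm)
    · exact ((e1.2 h2').trans h2'.symm)
    · exact h2.trans h2'.symm
  subst hx
  have e4 := mul_left_cancel e2
  have e5 : α = α' := Subtype.ext e4
  subst e5
  subst e3
  rfl

/-- the triples with `x ≠ ±1` -/
theorem card_T3b {v : V} (hv : Rk2 K v) :
    Nat.card {z : (Matrix.SpecialLinearGroup (Fin 2) K) × (SL25 × AA G l) //
      (l z.2.1 * (z.2.2 : V ≃ₗ[ZMod p] V)) ((z.1 : Matrix (Fin 2) (Fin 2) K) • v) = (z.1 : Matrix (Fin 2) (Fin 2) K) • v ∧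
        ¬ (z.2.1 = 1 ∨ z.2.1 = -1)} ≤
      Nat.card {α : AA (G1 G (XX K v)) l // (α : V ≃ₗ[ZMod p] V) v ≠ v ∧ (α : V ≃ₗ[ZMod p] V) v ≠ -v} *
        (60 * Nat.card K) := by
  have := hS.finSL
  let A' := {α : AA (G1 G (XX K v)) l // (α : V ≃ₗ[ZMod p] V) v ≠ v ∧ (α : V ≃ₗ[ZMod p] V) v ≠ -v}
  have hy : ∀ α : A', ∃ y : Matrix.SpecialLinearGroup (Fin 2) K, (α.1 : V ≃ₗ[ZMod p] V) v = (y : Matrix (Fin 2) (Fin 2) K) • v :=
    fun α => (hS.mem_AA_G1.1 α.1.2).2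
  choose y hy using hy
  have key : ∀ z : {z : (Matrix.SpecialLinearGroup (Fin 2) K) × (SL25 × AA G l) //
      (l z.2.1 * (z.2.2 : V ≃ₗ[ZMod p] V)) ((z.1 : Matrix (Fin 2) (Fin 2) K) • v) = (z.1 : Matrix (Fin 2) (Fin 2) K) • v ∧
        ¬ (z.2.1 = 1 ∨ z.2.1 = -1)}, ∃ α : A', (z.1.2.2 : V ≃ₗ[ZMod p] V) = (α.1 : V ≃ₗ[ZMod p] V) ∧
          j z.1.2.1 * z.1.1 * y α = z.1.1 := by
    rintro ⟨⟨u, x, α, hα⟩, h1, h2⟩
    have h1' : (j x : Matrix (Fin 2) (Fin 2) K) • (u : Matrix (Fin 2) (Fin 2) K) • α v = (u : Matrix (Fin 2) (Fin 2) K) • v := by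
      rw [← hS.comm_smul hα, ← hS.act]; exact h1
    have h3 : α v = ((u⁻¹ * (j x)⁻¹ * u : Matrix.SpecialLinearGroup (Fin 2) K) : Matrix (Fin 2) (Fin 2) K) • v := by
      rw [Matrix.SpecialLinearGroup.coe_mul, mul_smul, ← h1', ← mul_smul, ← mul_smul,
        ← Matrix.SpecialLinearGroup.coe_mul, ← Matrix.SpecialLinearGroup.coe_mul]
      have e : u⁻¹ * (j x)⁻¹ * (j x) * u = 1 := by group
      rw [e, Matrix.SpecialLinearGroup.coe_one, one_smul]
    have hm : α ∈ AA (G1 G (XX K v)) l := hS.mem_AA_G1.2 ⟨hα, _, h3⟩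
    have hne : ∀ y' : Matrix.SpecialLinearGroup (Fin 2) K, α v = (y' : Matrix (Fin 2) (Fin 2) K) • v → j x * u * y' = u := by
      intro y' hy'
      rw [hy'] at h1'
      rw [← mul_smul, ← mul_smul, ← Matrix.SpecialLinearGroup.coe_mul, ← Matrix.SpecialLinearGroup.coe_mul] at h1'
      have h8 := hv.inj h1'
      exact Subtype.ext h8
    have h4 : α v ≠ v := by
      intro h5
      have h6 := hne 1 (by rw [Matrix.SpecialLinearGroup.coe_one, one_smul]; exact h5)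
      rw [mul_one] at h6
      exact h2 (Or.inl (hS.jinj ((mul_eq_right.1 h6).trans (map_one j).symm)))
    have h5 : α v ≠ -v := by
      intro h5
      have h6 := hne (-1) (by simp [h5])
      rw [mul_neg, mul_one] at h6
      refine h2 (Or.inr (hS.jinj ?_))
      rw [hS.j_neg]
      have h7 : j x * u = -u := by rw [← h6, neg_neg]; rw [h6]
      have h8 : j x = -u * u⁻¹ := by rw [← h7, mul_inv_cancel_right]
      rw [h8, neg_mul, mul_inv_cancel]
    exact ⟨⟨⟨α, hm⟩, h4, h5⟩, rfl, hne (y ⟨⟨α, hm⟩, h4, h5⟩) (hy ⟨⟨α, hm⟩, h4, h5⟩)⟩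
  choose a ha1 ha2 using key
  have hle : Nat.card {z : (Matrix.SpecialLinearGroup (Fin 2) K) × (SL25 × AA G l) //
      (l z.2.1 * (z.2.2 : V ≃ₗ[ZMod p] V)) ((z.1 : Matrix (Fin 2) (Fin 2) K) • v) = (z.1 : Matrix (Fin 2) (Fin 2) K) • v ∧
        ¬ (z.2.1 = 1 ∨ z.2.1 = -1)} ≤ Nat.card (Σ α : A', {z : Matrix.SpecialLinearGroup (Fin 2) K × SL25 //
          (z.2 ≠ 1 ∧ z.2 ≠ -1) ∧ j z.2 * z.1 * y α = z.1}) := by
    refine Nat.card_le_card_of_injective (fun z => ⟨a z, (z.1.1, z.1.2.1), by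
      have := z.2.2
      push Not at this
      exact this, ha2 z⟩) ?_
    intro z z' h
    have e1 : a z = a z' := congrArg (fun s => s.1) h
    have e2 : (z.1.1, z.1.2.1) = (z'.1.1, z'.1.2.1) := congrArg (fun s : (Σ α : A', {z : Matrix.SpecialLinearGroup (Fin 2) K × SL25 //
          (z.2 ≠ 1 ∧ z.2 ≠ -1) ∧ j z.2 * z.1 * y α = z.1}) => s.2.1) h
    have e3 : z.1.2.2 = z'.1.2.2 := Subtype.ext ((ha1 z).trans ((by rw [e1] : _ = _).trans (ha1 z').symm))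
    have e4 : z.1.1 = z'.1.1 := (Prod.mk.inj e2).1
    have e5 : z.1.2.1 = z'.1.2.1 := (Prod.mk.inj e2).2
    exact Subtype.ext (Prod.ext e4 (Prod.ext e5 e3))
  refine hle.trans ?_
  have hF := Fintype.ofFinite A'
  rw [Nat.card_sigma]
  calc _ ≤ ∑ _α : A', 60 * Nat.card K := Finset.sum_le_sum fun α _ => hS.card_ux_le (y α)
    _ = _ := by
      rw [Finset.sum_const, Finset.card_univ, smul_eq_mul]
      congr 1
      exact (Nat.card_eq_fintype_card (α := A')).symm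

/-- **The main count.** -/
theorem count {v : V} (hv : Rk2 K v) {k₀ : ℕ}
    (hk : ∀ u : Matrix.SpecialLinearGroup (Fin 2) K, k₀ ≤ 2 * Nat.card (sg (LC G l) ((u : Matrix (Fin 2) (Fin 2) K) • v))) :
    k₀ * Nat.card (Matrix.SpecialLinearGroup (Fin 2) K) + 120 * Nat.card K * Nat.card (sg (AA G l) v) ≤
    2 * Nat.card (sg (AA G l) v) * Nat.card (Matrix.SpecialLinearGroup (Fin 2) K) +
      60 * Nat.card K * Nat.card (AA (G1 G (XX K v)) l) := by
  have := hS.finSL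
  have hF := Fintype.ofFinite (Matrix.SpecialLinearGroup (Fin 2) K)
  have h1 : k₀ * Nat.card (Matrix.SpecialLinearGroup (Fin 2) K) ≤
      Nat.card {z : (Matrix.SpecialLinearGroup (Fin 2) K) × (SL25 × AA G l) //
      (l z.2.1 * (z.2.2 : V ≃ₗ[ZMod p] V)) ((z.1 : Matrix (Fin 2) (Fin 2) K) • v) = (z.1 : Matrix (Fin 2) (Fin 2) K) • v} := by
    have e : {z : (Matrix.SpecialLinearGroup (Fin 2) K) × (SL25 × AA G l) //
      (l z.2.1 * (z.2.2 : V ≃ₗ[ZMod p] V)) ((z.1 : Matrix (Fin 2) (Fin 2) K) • v) = (z.1 : Matrix (Fin 2) (Fin 2) K) • v} ≃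
        Σ u : Matrix.SpecialLinearGroup (Fin 2) K, {w : SL25 × AA G l // (l w.1 * (w.2 : V ≃ₗ[ZMod p] V))
          ((u : Matrix (Fin 2) (Fin 2) K) • v) = (u : Matrix (Fin 2) (Fin 2) K) • v} :=
      { toFun := fun z => ⟨z.1.1, z.1.2, z.2⟩
        invFun := fun s => ⟨(s.1, s.2.1), s.2.2⟩
        left_inv := fun z => rfl
        right_inv := fun s => rfl }
    rw [Nat.card_congr e, Nat.card_sigma]
    calc k₀ * Nat.card (Matrix.SpecialLinearGroup (Fin 2) K) = ∑ _u : Matrix.SpecialLinearGroup (Fin 2) K, k₀ := by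
          rw [Finset.sum_const, Finset.card_univ, smul_eq_mul, Nat.card_eq_fintype_card, mul_comm]
      _ ≤ _ := by
          refine Finset.sum_le_sum fun u _ => ?_
          rw [hS.card_pairs (fun g => g ((u : Matrix (Fin 2) (Fin 2) K) • v) = (u : Matrix (Fin 2) (Fin 2) K) • v)]
          refine (hk u).trans (le_of_eq ?_)
          congr 1
          exact Nat.card_congr ⟨fun g => ⟨⟨g.1, g.2.1⟩, g.2.2⟩, fun g => ⟨g.1.1, g.1.2, g.2⟩, fun g => rfl, fun g => rfl⟩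
  have h2 : Nat.card {z : (Matrix.SpecialLinearGroup (Fin 2) K) × (SL25 × AA G l) //
      (l z.2.1 * (z.2.2 : V ≃ₗ[ZMod p] V)) ((z.1 : Matrix (Fin 2) (Fin 2) K) • v) = (z.1 : Matrix (Fin 2) (Fin 2) K) • v} ≤
      Nat.card {z : (Matrix.SpecialLinearGroup (Fin 2) K) × (SL25 × AA G l) //
      (l z.2.1 * (z.2.2 : V ≃ₗ[ZMod p] V)) ((z.1 : Matrix (Fin 2) (Fin 2) K) • v) = (z.1 : Matrix (Fin 2) (Fin 2) K) • v ∧
        (z.2.1 = 1 ∨ z.2.1 = -1)} + Nat.card {z : (Matrix.SpecialLinearGroup (Fin 2) K) × (SL25 × AA G l) //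
      (l z.2.1 * (z.2.2 : V ≃ₗ[ZMod p] V)) ((z.1 : Matrix (Fin 2) (Fin 2) K) • v) = (z.1 : Matrix (Fin 2) (Fin 2) K) • v ∧
        ¬ (z.2.1 = 1 ∨ z.2.1 = -1)} := by
    rw [← Nat.card_sum]
    refine Nat.card_le_card_of_injective (fun z => if h : z.1.2.1 = 1 ∨ z.1.2.1 = -1 then
      Sum.inl ⟨z.1, z.2, h⟩ else Sum.inr ⟨z.1, z.2, h⟩) ?_
    intro z z' h
    by_cases hz : z.1.2.1 = 1 ∨ z.1.2.1 = -1 <;> by_cases hz' : z'.1.2.1 = 1 ∨ z'.1.2.1 = -1
    · simp only [hz, hz', dif_pos, Sum.inl.injEq, Subtype.mk.injEq] at h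
      exact Subtype.ext h
    · simp only [hz, hz', dif_pos, dif_neg, not_false_eq_true, reduceCtorEq] at h
    · simp only [hz, hz', dif_pos, dif_neg, not_false_eq_true, reduceCtorEq] at h
    · simp only [hz, hz', dif_neg, not_false_eq_true, Sum.inr.injEq, Subtype.mk.injEq] at h
      exact Subtype.ext h
  have h3 := hS.card_T3a (v := v)
  have h4 := hS.card_T3b hv
  have h5 := hS.card_A1' hv
  set A' := Nat.card {α : AA (G1 G (XX K v)) l // (α : V ≃ₗ[ZMod p] V) v ≠ v ∧ (α : V ≃ₗ[ZMod p] V) v ≠ -v}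
  have h6 : (A' + 2 * Nat.card (sg (AA G l) v)) * (60 * Nat.card K) ≤ Nat.card (AA (G1 G (XX K v)) l) * (60 * Nat.card K) :=
    Nat.mul_le_mul_right _ h5
  nlinarith [h1, h2, h3, h4, h6]

end SetupQ

end setup

end Cfsg.Agent.H312.HT
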