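import Cfsg.Agent.H312.HT.RankB

/-!
# Vectors of rank two: the orders of the stabilisers (helper312, S3540)
-/

set_option autoImplicit false

namespace Cfsg.Agent.H312.HT

open Cfsg.Agent.H828.HT Cfsg.Agent.PermutationGroups.AutSL25 Matrix

universe u v

variable {p : ℕ} [Fact p.Prime] {V : Type u} [AddCommGroup V] [Module (ZMod p) V] [Finite V]
  {G : Subgroup (V ≃ₗ[ZMod p] V)} {h : ℕ} {K : Type v} [Field K] [Module (Matrix (Fin 2) (Fin 2) K) V]
  {j : SL25 →* Matrix.SpecialLinearGroup (Fin 2) K} {l : SL25 →* (V ≃ₗ[ZMod p] V)}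

theorem num_a {q h D A S : ℕ} (hq : 2 ≤ q) (hS : S = q * (q ^ 2 - 1)) (hD : D ∣ h) (h0 : 1 ≤ h)
    (h1 : 2 * h * S + 120 * q * D ≤ 2 * D * S + 60 * q * A) (h2 : 60 * A ≤ h * (q ^ 2 - 1)) : h = D := by
  have hq2 : 3 ≤ q ^ 2 - 1 := by
    have : 4 ≤ q ^ 2 := by nlinarith
    omega
  set R := q ^ 2 - 1 with hR
  subst hS
  have hD0 : 0 < D := Nat.pos_of_dvd_of_pos hD h0
  have h3 : q * (2 * h * R + 120 * D) ≤ q * (2 * D * R + 60 * A) := by nlinarith
  have h4 := Nat.le_of_mul_le_mul_left h3 (by omega)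
  have h5 : h * R < 2 * D * R := by nlinarith
  have h6 : h < 2 * D := Nat.lt_of_mul_lt_mul_right h5
  obtain ⟨c, rfl⟩ := hD
  have h7 : D * c < D * 2 := by omega
  have h8 : c < 2 := Nat.lt_of_mul_lt_mul_left h7
  have h9 : c ≠ 0 := by rintro rfl; omega
  have h10 : c = 1 := by omega
  rw [h10, mul_one]

theorem num_b {q h D A S k : ℕ} (hq : 2 ≤ q) (hS : S = q * (q ^ 2 - 1)) (hk : h = 2 * k) (hD : D ∣ k) (h0 : 1 ≤ h)
    (h1 : h * S + 120 * q * D ≤ 2 * D * S + 60 * q * A) (h2 : 120 * A ≤ h * (q ^ 2 - 1)) : h = 2 * D := by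
  have hq2 : 3 ≤ q ^ 2 - 1 := by
    have : 4 ≤ q ^ 2 := by nlinarith
    omega
  set R := q ^ 2 - 1 with hR
  subst hS
  have hD0 : 0 < D := Nat.pos_of_dvd_of_pos hD (by omega)
  have h3 : q * (h * R + 120 * D) ≤ q * (2 * D * R + 60 * A) := by nlinarith
  have h4 := Nat.le_of_mul_le_mul_left h3 (by omega)
  have h5 : h * R < 4 * D * R := by nlinarith
  have h6 : h < 4 * D := Nat.lt_of_mul_lt_mul_right h5
  obtain ⟨c, rfl⟩ := hD
  have h7 : D * c < D * 2 := by omega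
  have h8 : c < 2 := Nat.lt_of_mul_lt_mul_left h7
  have h9 : c ≠ 0 := by rintro rfl; omega
  have h10 : c = 1 := by omega
  rw [hk, h10, mul_one]

theorem AA_mono {H : Subgroup (V ≃ₗ[ZMod p] V)} (hH : H ≤ G) : AA H l ≤ AA G l := fun _ hα =>
  mem_AA.2 ⟨hH (mem_AA.1 hα).1, (mem_AA.1 hα).2⟩

theorem LC_mono {H : Subgroup (V ≃ₗ[ZMod p] V)} (hH : H ≤ G) : LC H l ≤ LC G l := by
  rintro _ ⟨x, α, hα, rfl⟩
  exact ⟨x, α, AA_mono hH hα, rfl⟩

theorem G1_le {X : Set V} : G1 G X ≤ G := fun _ hg => hg.1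

namespace SetupQ

variable (hS : SetupQ G K j l)

include hS

theorem card_SL : Nat.card (Matrix.SpecialLinearGroup (Fin 2) K) = Nat.card K * (Nat.card K ^ 2 - 1) := by
  have := hS.fin
  have hF := Fintype.ofFinite K
  rw [Nat.card_eq_fintype_card (α := K)]
  exact ClassicalGeometry.PSL2Basic.card_SL2 K

theorem q_ge : 7 ≤ Nat.card K := by
  have h7 := hS.p7
  rcases hS.card with h | h
  · rw [h]; exact h7
  · rw [h.1]; nlinarith

theorem coprime_q {n : ℕ} (hn : ¬ p ∣ n) : n.Coprime (Nat.card K) := by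
  have hp : p.Prime := Fact.out
  have h1 : n.Coprime p := ((Nat.Prime.coprime_iff_not_dvd hp).2 hn).symm
  rcases hS.card with h | h
  · rw [h]; exact h1
  · rw [h.1]; exact h1.pow_right 2

/-- the order of a subgroup which acts on `XX K v` with stabilisers of order `h` -/
theorem card_le_of_inv (hG : ¬ p ∣ Nat.card G) {v : V} (hv : Rk2 K v) (h0 : 1 ≤ h) {H : Subgroup (V ≃ₗ[ZMod p] V)}
    (hH : H ≤ G1 G (XX K v)) (hst : ∀ w ∈ XX K v, Nat.card (sg H w) = h) :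
    Nat.card H ≤ h * (Nat.card K ^ 2 - 1) := by
  have hq := hS.q_ge
  have h1 := card_dvd_inv (h := h) H (XX K v) (fun g hg w hw => ((hH hg).2 w).2 hw) hst h0 ⟨v, 1, by
    rw [Matrix.SpecialLinearGroup.coe_one, one_smul]⟩
  rw [card_XX hv, hS.card_SL] at h1
  have h2 : ¬ p ∣ Nat.card H := fun h => hG (h.trans (Subgroup.card_dvd_of_le (hH.trans G1_le)))
  have h3 : Nat.card H ∣ Nat.card K * (h * (Nat.card K ^ 2 - 1)) := by
    rwa [← mul_assoc, mul_comm (Nat.card K) h, mul_assoc]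
  have h4 := (hS.coprime_q h2).dvd_of_dvd_mul_left h3
  refine Nat.le_of_dvd ?_ h4
  have : 49 ≤ Nat.card K ^ 2 := by nlinarith
  have : 0 < Nat.card K ^ 2 - 1 := by omega
  positivity

theorem sg_G1 {v w : V} (hw : w ∈ XX K v) : sg (G1 G (XX K v)) w = sg G w :=
  le_antisymm (sg_mono G1_le w) fun _ hg => ⟨hS.mem_G1_of_fix hw hg.1 hg.2, hg.2⟩

theorem sg_LC_G1 {v w : V} (hw : w ∈ XX K v) : sg (LC (G1 G (XX K v)) l) w = sg (LC G l) w := by
  refine le_antisymm (sg_mono (LC_mono G1_le) w) ?_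
  rintro g ⟨⟨x, α, hα, rfl⟩, hg⟩
  have h1 := hS.mem_G1_of_fix hw (mul_mem (hS.mem x) (AA_le hα)) hg
  refine ⟨⟨x, α, ?_, rfl⟩, hg⟩
  have h2 : α ∈ G1 G (XX K v) := (Subgroup.mul_mem_cancel_left _ (hS.l_mem_G1 v x)).1 h1
  exact mem_AA.2 ⟨h2, (mem_AA.1 hα).2⟩

theorem sg_AA_smul (u : Matrix.SpecialLinearGroup (Fin 2) K) (v : V) :
    sg (AA G l) ((u : Matrix (Fin 2) (Fin 2) K) • v) = sg (AA G l) v := by
  ext α
  rw [mem_sg, mem_sg]
  constructor
  · rintro ⟨h1, h2⟩; exact ⟨h1, (hS.AA_fix h1 u v).1 h2⟩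
  · rintro ⟨h1, h2⟩; exact ⟨h1, (hS.AA_fix h1 u v).2 h2⟩

/-- **(N)** vectors of rank two -/
theorem rank_two (hG : ¬ p ∣ Nat.card G) (hh : Half G h) (h0 : 1 ≤ h) {v : V} (hv : Rk2 K v) :
    (h = Nat.card (sg (AA G l) v) ∨ h = 2 * Nat.card (sg (AA G l) v)) ∧
    (Nat.card K = p → h = Nat.card (sg (AA G l) v)) := by
  have hq := hS.q_ge
  have hst : ∀ w ∈ XX K v, Nat.card (sg G w) = h := by
    rintro _ ⟨u, rfl⟩
    exact card_sg hh (hv.smul u).ne_zero
  have hS1 : SetupQ (G1 G (XX K v)) K j l := hS.restrict G1_le (hS.l_mem_G1 v)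
  have hD : Nat.card (sg (AA G l) v) ∣ h := by
    rw [← card_sg hh hv.ne_zero]
    exact Subgroup.card_dvd_of_le (sg_mono AA_le v)
  have caseA : (∀ u : Matrix.SpecialLinearGroup (Fin 2) K,
      Nat.card (sg (LC G l) ((u : Matrix (Fin 2) (Fin 2) K) • v)) = h) → h = Nat.card (sg (AA G l) v) := by
    intro hall
    have h1 : Nat.card (LC (G1 G (XX K v)) l) ≤ h * (Nat.card K ^ 2 - 1) := by
      refine hS.card_le_of_inv hG hv h0 hS1.LC_le fun w hw => ?_
      rw [hS.sg_LC_G1 hw]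
      obtain ⟨u, rfl⟩ := hw
      exact hall u
    rw [hS1.card_LC] at h1
    have h2 := hS.count hv (k₀ := 2 * h) (fun u => by rw [hall u])
    exact num_a (by omega) hS.card_SL hD h0 h2 h1
  refine ⟨?_, fun hK => ?_⟩
  · by_cases hall : ∀ u : Matrix.SpecialLinearGroup (Fin 2) K,
      Nat.card (sg (LC G l) ((u : Matrix (Fin 2) (Fin 2) K) • v)) = h
    · left; exact caseA hall
    · right
      push Not at hall
      obtain ⟨u, hu⟩ := hall
      have hw : (u : Matrix (Fin 2) (Fin 2) K) • v ∈ XX K v := ⟨u, rfl⟩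
      have h1 : h = 2 * Nat.card (sg (LC G l) ((u : Matrix (Fin 2) (Fin 2) K) • v)) := by
        rcases hS.card_sg_LC ((u : Matrix (Fin 2) (Fin 2) K) • v) with h1 | h1
        · exact absurd (h1.symm.trans (hst _ hw)) hu
        · rw [← h1]; exact (hst _ hw).symm
      have h2 : Nat.card (G1 G (XX K v)) ≤ h * (Nat.card K ^ 2 - 1) :=
        hS.card_le_of_inv hG hv h0 le_rfl fun w hw => by rw [hS.sg_G1 hw]; exact hst w hw
      have h3 : Nat.card (G1 G (XX K v)) = 120 * Nat.card (AA (G1 G (XX K v)) l) := by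
        rcases hS1.card_G_LC with h4 | h4
        · exfalso
          have h5 : LC (G1 G (XX K v)) l = G1 G (XX K v) :=
            Subgroup.eq_of_le_of_card_ge hS1.LC_le (by rw [h4])
          apply hu
          rw [← hS.sg_LC_G1 hw, h5, hS.sg_G1 hw]
          exact hst _ hw
        · rw [h4, hS1.card_LC]; ring
      rw [h3] at h2
      have h4 := hS.count hv (k₀ := h) (fun u' => by
        have hw' : (u' : Matrix (Fin 2) (Fin 2) K) • v ∈ XX K v := ⟨u', rfl⟩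
        have := hst _ hw'
        rcases hS.card_sg_LC ((u' : Matrix (Fin 2) (Fin 2) K) • v) with h1 | h1 <;> omega)
      refine num_b (by omega) hS.card_SL h1 ?_ h0 h4 h2
      rw [← hS.sg_AA_smul u v]
      exact Subgroup.card_dvd_of_le (sg_mono AA_le_LC _)
  · refine caseA fun u => ?_
    have h1 : LC G l = G := le_antisymm hS.LC_le fun g hg => hS.mem_LC_of_card hK hg
    rw [h1]
    exact hst _ ⟨u, rfl⟩

end SetupQ

end Cfsg.Agent.H312.HT
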