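import Cfsg.Agent.H312.HT.CoreB

/-!
# Stabilisers, orders (helper312, S3540)
-/

set_option autoImplicit false

namespace Cfsg.Agent.H312.HT

open Cfsg.Agent.H828.HT Cfsg.Agent.PermutationGroups.AutSL25 Matrix

universe u v

section gen

theorem card_two {Γ : Type*} [Group Γ] (A B : Subgroup Γ) (hAB : A ≤ B)
    (h : ∀ x ∈ B, ∀ y ∈ B, x ∉ A → y ∉ A → x * y ∈ A) : Nat.card B = Nat.card A ∨ Nat.card B = 2 * Nat.card A := by
  by_cases hBA : B ≤ A
  · left; rw [le_antisymm hBA hAB]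
  · right
    obtain ⟨a, ha, haA⟩ := SetLike.not_le_iff_exists.1 hBA
    have h1 : (A.subgroupOf B).index = 2 := by
      rw [Subgroup.index_eq_two_iff]
      refine ⟨⟨a, ha⟩, fun b => ?_⟩
      by_cases hb : (b : Γ) ∈ A
      · right
        refine ⟨hb, fun h2 => haA ?_⟩
        have h3 : (b : Γ) * a ∈ A := h2
        exact (Subgroup.mul_mem_cancel_left A hb).1 h3
      · left
        exact ⟨h _ b.2 _ ha hb haA, hb⟩
    have h2 := Subgroup.card_mul_index (A.subgroupOf B)
    rw [h1, Nat.card_congr (Subgroup.subgroupOfEquivOfLe hAB).toEquiv] at h2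
    rw [← h2, mul_comm]

theorem card_fiber {α β : Type*} [Finite α] [Finite β] (f : α → β) {c : ℕ} (hf : ∀ b, Nat.card {a // f a = b} = c)
    (P : β → Prop) : Nat.card {a // P (f a)} = c * Nat.card {b // P b} := by
  have e : {a // P (f a)} ≃ Σ b : {b // P b}, {a // f a = b.1} :=
    { toFun := fun a => ⟨⟨f a.1, a.2⟩, ⟨a.1, rfl⟩⟩
      invFun := fun s => ⟨s.2.1, by rw [s.2.2]; exact s.1.2⟩
      left_inv := fun a => rfl
      right_inv := by
        rintro ⟨⟨b, hb⟩, ⟨a, ha⟩⟩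
        change f a = b at ha
        subst ha
        rfl }
  rw [Nat.card_congr e]
  have hF := Fintype.ofFinite {b // P b}
  rw [Nat.card_sigma, Finset.sum_congr rfl (fun x _ => hf x.1), Finset.sum_const, Finset.card_univ,
    Nat.card_eq_fintype_card, smul_eq_mul, mul_comm]

end gen

section setup

variable {p : ℕ} [Fact p.Prime] {V : Type u} [AddCommGroup V] [Module (ZMod p) V]
  {G : Subgroup (V ≃ₗ[ZMod p] V)} {h : ℕ} {K : Type v} [Field K] [Module (Matrix (Fin 2) (Fin 2) K) V]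
  {j : SL25 →* Matrix.SpecialLinearGroup (Fin 2) K} {l : SL25 →* (V ≃ₗ[ZMod p] V)}

/-- the stabiliser of `v` -/
def sg (G : Subgroup (V ≃ₗ[ZMod p] V)) (v : V) : Subgroup (V ≃ₗ[ZMod p] V) where
  carrier := {g | g ∈ G ∧ g v = v}
  one_mem' := ⟨one_mem _, rfl⟩
  mul_mem' := by
    rintro a b ⟨ha, ha'⟩ ⟨hb, hb'⟩
    exact ⟨mul_mem ha hb, by rw [LinearEquiv.mul_apply, hb', ha']⟩
  inv_mem' := by
    rintro a ⟨ha, ha'⟩
    refine ⟨inv_mem ha, ?_⟩
    conv_lhs => rw [← ha']
    rw [← LinearEquiv.mul_apply, inv_mul_cancel]; rfl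

theorem mem_sg {v : V} {g : V ≃ₗ[ZMod p] V} : g ∈ sg G v ↔ g ∈ G ∧ g v = v := Iff.rfl

theorem card_sg (hh : Half G h) {v : V} (hv : v ≠ 0) : Nat.card (sg G v) = h := by
  rw [← hh v hv]
  refine Nat.card_congr ⟨fun g => ⟨⟨g.1, g.2.1⟩, g.2.2⟩, fun g => ⟨g.1.1, g.1.2, g.2⟩, fun g => rfl, fun g => rfl⟩

theorem sg_mono {H : Subgroup (V ≃ₗ[ZMod p] V)} (hHG : H ≤ G) (v : V) : sg H v ≤ sg G v := fun _ hg => ⟨hHG hg.1, hg.2⟩

theorem Rk2.ne_zero {v : V} (hv : Rk2 K v) : v ≠ 0 := by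
  rintro rfl
  have h1 := hv 1 (smul_zero _)
  exact one_ne_zero h1

theorem Rk2.smul {v : V} (hv : Rk2 K v) (u : Matrix.SpecialLinearGroup (Fin 2) K) :
    Rk2 K ((u : Matrix (Fin 2) (Fin 2) K) • v) := by
  intro M hM
  rw [← mul_smul] at hM
  have h1 := hv _ hM
  have h2 : M * (u : Matrix (Fin 2) (Fin 2) K) * ((u⁻¹ : Matrix.SpecialLinearGroup (Fin 2) K) :
      Matrix (Fin 2) (Fin 2) K) = 0 := by rw [h1, zero_mul]
  rw [mul_assoc, ← Matrix.SpecialLinearGroup.coe_mul, mul_inv_cancel, Matrix.SpecialLinearGroup.coe_one, mul_one] at h2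
  exact h2

theorem Rk2.inj {v : V} (hv : Rk2 K v) {M N : Matrix (Fin 2) (Fin 2) K} (h : M • v = N • v) : M = N := by
  have h1 := hv (M - N) (by rw [sub_smul, h, sub_self])
  exact sub_eq_zero.1 h1

variable [Finite V]

theorem card_dvd_inv (G₁ : Subgroup (V ≃ₗ[ZMod p] V)) (X : Set V) (hX : ∀ g ∈ G₁, ∀ v ∈ X, g v ∈ X)
    (hst : ∀ v ∈ X, Nat.card (sg G₁ v) = h) (h0 : 0 < h) (hne : X.Nonempty) : Nat.card G₁ ∣ h * Nat.card X := by
  let _ : MulAction G₁ X :=
    { smul := fun g x => ⟨(g : V ≃ₗ[ZMod p] V) x, hX g g.2 x x.2⟩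
      one_smul := fun x => Subtype.ext rfl
      mul_smul := fun a b x => Subtype.ext rfl }
  have horb : ∀ x : X, Nat.card (MulAction.orbit G₁ x) * h = Nat.card G₁ := by
    intro x
    have h1 := MulAction.card_orbit_mul_card_stabilizer_eq_card_group G₁ x
    rw [← Nat.card_eq_fintype_card, ← Nat.card_eq_fintype_card, ← Nat.card_eq_fintype_card] at h1
    rw [← h1, ← hst x x.2]
    congr 1
    refine Nat.card_congr ⟨fun g => ⟨⟨g.1, g.2.1⟩, Subtype.ext g.2.2⟩, fun g => ⟨g.1.1, g.1.2,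
      congrArg Subtype.val g.2⟩, fun g => rfl, fun g => rfl⟩
  obtain ⟨x0, hx0⟩ := hne
  have h2 : ∀ x : X, Nat.card (MulAction.orbit G₁ x) = Nat.card (MulAction.orbit G₁ (⟨x0, hx0⟩ : X)) := fun x =>
    Nat.eq_of_mul_eq_mul_right h0 ((horb x).trans (horb _).symm)
  have h3 := dvd_card_of_orbits (K := G₁) h2
  rw [← horb ⟨x0, hx0⟩, mul_comm h]
  exact Nat.mul_dvd_mul_right h3 h

namespace SetupQ

variable (hS : SetupQ G K j l)

include hS

/-- the pairs `(x, α)` which represent a given element of `L C_G(L)` -/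
theorem card_pairs (P : (V ≃ₗ[ZMod p] V) → Prop) :
    Nat.card {z : SL25 × AA G l // P (l z.1 * z.2)} = 2 * Nat.card {g : LC G l // P g} := by
  let f : SL25 × AA G l → LC G l := fun z => ⟨l z.1 * z.2, z.1, z.2, z.2.2, rfl⟩
  refine (card_fiber f (c := 2) ?_ (fun g => P g))
  rintro ⟨g, x, α, hα, rfl⟩
  have hcen : ∀ z : AA G l, ∀ w : SL25, l w = (z : V ≃ₗ[ZMod p] V) → w = 1 ∨ w = -1 := by
    intro z w hw
    have h1 : ∀ y, w * y = y * w := by
      intro y
      apply hS.l_inj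
      rw [map_mul, map_mul, hw, (mem_AA.1 z.2).2]
    exact mem_center_iff w ⟨h1 S, h1 T⟩
  have hneg : l (-1) ∈ AA G l := by
    rw [mem_AA]
    refine ⟨hS.mem _, fun y => ?_⟩
    rw [← map_mul, ← map_mul]; simp
  have e : {z : SL25 × AA G l // f z = ⟨l x * α, x, α, hα, rfl⟩} ≃ Bool :=
    { toFun := fun z => if z.1.1 = x then true else false
      invFun := fun b => if b then ⟨(x, ⟨α, hα⟩), rfl⟩ else ⟨(-x, ⟨l (-1) * α, mul_mem hneg hα⟩), by
        apply Subtype.ext
        change l (-x) * (l (-1) * α) = l x * α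
        rw [← mul_assoc, ← map_mul]; simp⟩
      left_inv := by
        rintro ⟨⟨y, β⟩, hz⟩
        have hz' : l y * (β : V ≃ₗ[ZMod p] V) = l x * α := congrArg Subtype.val hz
        have h1 : l (x⁻¹ * y) = ((⟨α, hα⟩ * β⁻¹ : AA G l) : V ≃ₗ[ZMod p] V) := by
          rw [map_mul, map_inv]
          change (l x)⁻¹ * l y = α * (β : V ≃ₗ[ZMod p] V)⁻¹
          rw [inv_mul_eq_iff_eq_mul, ← mul_assoc, ← hz', mul_inv_cancel_right]
        rcases hcen _ _ h1 with h2 | h2
        · have h3 : x = y := inv_mul_eq_one.1 h2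
          subst h3
          have h4 : (β : V ≃ₗ[ZMod p] V) = α := mul_left_cancel hz'
          simp only [if_true]
          apply Subtype.ext
          exact Prod.ext rfl (Subtype.ext h4.symm)
        · have h3 : y = -x := by
            rw [inv_mul_eq_iff_eq_mul] at h2
            rw [h2]; simp
          have hne : y ≠ x := by
            intro h5
            rw [h5, inv_mul_cancel] at h2
            exact neg_one_ne h2.symm
          simp only [hne, if_false]
          apply Subtype.ext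
          refine Prod.ext h3.symm (Subtype.ext ?_)
          change l (-1) * α = (β : V ≃ₗ[ZMod p] V)
          rw [h3] at hz'
          have h6 : l (-x) = l x * l (-1) := by rw [← map_mul]; simp
          rw [h6, mul_assoc] at hz'
          have h7 := mul_left_cancel hz'
          have h8 : l (-1) * l (-1) = 1 := by rw [← map_mul]; simp
          rw [← h7, ← mul_assoc, h8, one_mul]
      right_inv := by
        intro b
        cases b
        · have hne : -x ≠ x := by
            intro h5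
            have h6 : (-x) * x⁻¹ = 1 := by rw [h5, mul_inv_cancel]
            rw [neg_mul, mul_inv_cancel] at h6
            exact neg_one_ne h6
          simp [hne]
        · simp }
  rw [Nat.card_congr e, Nat.card_eq_fintype_card, Fintype.card_bool]

theorem card_LC : Nat.card (LC G l) = 60 * Nat.card (AA G l) := by
  have h1 := hS.card_pairs (fun _ => True)
  have h2 : Nat.card {z : SL25 × AA G l // True} = 120 * Nat.card (AA G l) := by
    rw [Nat.card_congr (Equiv.subtypeUnivEquiv fun _ => trivial), Nat.card_prod, natCard]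
  have h3 : Nat.card {g : LC G l // True} = Nat.card (LC G l) :=
    Nat.card_congr (Equiv.subtypeUnivEquiv fun _ => trivial)
  rw [h2, h3] at h1
  omega

/-- the stabilisers in `G` and in `L C_G(L)` -/
theorem card_sg_LC (v : V) : Nat.card (sg G v) = Nat.card (sg (LC G l) v) ∨
    Nat.card (sg G v) = 2 * Nat.card (sg (LC G l) v) := by
  refine card_two _ _ (sg_mono hS.LC_le v) ?_
  rintro x ⟨hx, hx'⟩ y ⟨hy, hy'⟩ hnx hny
  refine ⟨hS.mul_mem_LC hx hy (fun h => hnx ⟨h, hx'⟩) (fun h => hny ⟨h, hy'⟩), ?_⟩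
  rw [LinearEquiv.mul_apply, hy', hx']

theorem card_G_LC : Nat.card G = Nat.card (LC G l) ∨ Nat.card G = 2 * Nat.card (LC G l) :=
  card_two _ _ hS.LC_le fun _ hx _ hy hnx hny => hS.mul_mem_LC hx hy hnx hny

end SetupQ

end setup

end Cfsg.Agent.H312.HT
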