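import Cfsg.Agent.H312.HT.RankC

/-!
# Multiplicity at least two: `h = 2` and `|K| = p²` (helper312, S3540)
-/

set_option autoImplicit false

namespace Cfsg.Agent.H312.HT

open Cfsg.Agent.H828.HT Cfsg.Agent.PermutationGroups.AutSL25 Matrix

universe u v

section mods

variable {K : Type v} [Field K] {V : Type u} [AddCommGroup V] [Module (Matrix (Fin 2) (Fin 2) K) V]

theorem eu_mul (i k r s : Fin 2) : (eu i k : Matrix (Fin 2) (Fin 2) K) * eu r s = if k = r then eu i s else 0 := by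
  unfold eu
  by_cases h : k = r
  · subst h; simp
  · rw [if_neg h, Matrix.single_mul_single_of_ne (h := h)]

/-- `b ∈ B` -/
abbrev InB (K : Type v) [Field K] [Module (Matrix (Fin 2) (Fin 2) K) V] (b : V) : Prop :=
  (eu 0 0 : Matrix (Fin 2) (Fin 2) K) • b = b

/-- scalars -/
def sc (c : K) (v : V) : V := (c • (1 : Matrix (Fin 2) (Fin 2) K)) • v

theorem inB_e00 (v : V) : InB K ((eu 0 0 : Matrix (Fin 2) (Fin 2) K) • v) := by
  unfold InB
  rw [← mul_smul, eu_mul, if_pos rfl]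

theorem inB_e01 (v : V) : InB K ((eu 0 1 : Matrix (Fin 2) (Fin 2) K) • v) := by
  unfold InB
  rw [← mul_smul, eu_mul, if_pos rfl]

/-- the vector with coordinates `b₀`, `b₁` -/
def vec (K : Type v) [Field K] [Module (Matrix (Fin 2) (Fin 2) K) V] (b₀ b₁ : V) : V :=
  b₀ + (eu 1 0 : Matrix (Fin 2) (Fin 2) K) • b₁

theorem vec_coord (v : V) : vec K ((eu 0 0 : Matrix (Fin 2) (Fin 2) K) • v) ((eu 0 1 : Matrix (Fin 2) (Fin 2) K) • v) = v := by
  unfold vec
  rw [← mul_smul, eu_mul, if_pos rfl]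
  exact eu_add v

theorem e00_vec {b₀ b₁ : V} (h0 : InB K b₀) (_h1 : InB K b₁) :
    (eu 0 0 : Matrix (Fin 2) (Fin 2) K) • vec K b₀ b₁ = b₀ := by
  unfold vec
  rw [smul_add, ← mul_smul, eu_mul, if_neg (by decide), zero_smul, add_zero]
  exact h0

theorem e01_vec {b₀ b₁ : V} (h0 : InB K b₀) (h1 : InB K b₁) :
    (eu 0 1 : Matrix (Fin 2) (Fin 2) K) • vec K b₀ b₁ = b₁ := by
  unfold vec
  have h2 : (eu 0 1 : Matrix (Fin 2) (Fin 2) K) • b₀ = 0 := by
    rw [← h0, ← mul_smul, eu_mul, if_neg (by decide), zero_smul]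
  rw [smul_add, h2, zero_add, ← mul_smul, eu_mul, if_pos rfl]
  exact h1

theorem rk2_vec {b₀ b₁ : V} (h0 : InB K b₀) (h1 : InB K b₁) (hind : ∀ s t : K, sc s b₀ + sc t b₁ = 0 → s = 0 ∧ t = 0) :
    Rk2 K (vec K b₀ b₁) := by
  intro M hM
  have key : ∀ i : Fin 2, sc (M i 0) b₀ + sc (M i 1) b₁ = 0 := by
    intro i
    have h2 : ((eu 0 i : Matrix (Fin 2) (Fin 2) K) * M) • vec K b₀ b₁ = 0 := by rw [mul_smul, hM, smul_zero]
    unfold vec at h2
    rw [smul_add, ← h0, ← h1, ← mul_smul, ← mul_smul, ← mul_smul] at h2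
    have e1 : (eu 0 i : Matrix (Fin 2) (Fin 2) K) * M * eu 0 0 = (M i 0 • 1) * eu 0 0 := by
      unfold eu
      rw [Matrix.single_mul_mul_single, one_mul, mul_one, smul_mul_assoc, one_mul, Matrix.smul_single, smul_eq_mul, mul_one]
    have e2 : (eu 0 i : Matrix (Fin 2) (Fin 2) K) * M * eu 1 0 = (M i 1 • 1) * eu 0 0 := by
      unfold eu
      rw [Matrix.single_mul_mul_single, one_mul, mul_one, smul_mul_assoc, one_mul, Matrix.smul_single, smul_eq_mul, mul_one]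
    rw [e1, e2, mul_assoc (M i 1 • (1 : Matrix (Fin 2) (Fin 2) K)), eu_mul, if_pos rfl, mul_smul, mul_smul, h0, h1] at h2
    exact h2
  have k0 := hind _ _ (key 0)
  have k1 := hind _ _ (key 1)
  exact mat_ext k0.1 k0.2 k1.1 k1.2

theorem Rk2.e00_ne {v : V} (hv : Rk2 K v) : (eu 0 0 : Matrix (Fin 2) (Fin 2) K) • v ≠ 0 := by
  intro h
  have h1 := congrFun (congrFun (hv _ h) 0) 0
  simp at h1

theorem sc_sc (s t : K) (v : V) : sc s (sc t v) = sc (s * t) v := by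
  unfold sc
  rw [← mul_smul, smul_mul_assoc, one_mul, smul_smul]

theorem sc_one (v : V) : sc (1 : K) v = v := by
  unfold sc
  rw [one_smul, one_smul]

theorem sc_add (s : K) (v w : V) : sc s (v + w) = sc s v + sc s w := by
  unfold sc
  rw [smul_add]

theorem add_sc (s t : K) (v : V) : sc (s + t) v = sc s v + sc t v := by
  unfold sc
  rw [add_smul, add_smul]

theorem sc_neg (s : K) (v : V) : sc (-s) v = -sc s v := by
  unfold sc
  rw [neg_smul, neg_smul]

theorem sc_zero (s : K) : sc s (0 : V) = 0 := by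
  unfold sc
  rw [smul_zero]

theorem sc_inj {s : K} (hs : s ≠ 0) {v w : V} (h : sc s v = sc s w) : v = w := by
  have h1 := congrArg (sc s⁻¹) h
  rwa [sc_sc, sc_sc, inv_mul_cancel₀ hs, sc_one, sc_one] at h1

end mods

section setup

variable {p : ℕ} [Fact p.Prime] {V : Type u} [AddCommGroup V] [Module (ZMod p) V] [Finite V]
  {G : Subgroup (V ≃ₗ[ZMod p] V)} {h : ℕ} {K : Type v} [Field K] [Module (Matrix (Fin 2) (Fin 2) K) V]
  {j : SL25 →* Matrix.SpecialLinearGroup (Fin 2) K} {l : SL25 →* (V ≃ₗ[ZMod p] V)}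

namespace SetupQ

variable (hS : SetupQ G K j l)

include hS

omit [Finite V] in
theorem AA_sc {α : V ≃ₗ[ZMod p] V} (hα : α ∈ AA G l) (c : K) (v : V) : α (sc c v) = sc c (α v) :=
  hS.comm_smul hα _ _

omit [Finite V] in
theorem AA_inB {α : V ≃ₗ[ZMod p] V} (hα : α ∈ AA G l) {b : V} (hb : InB K b) : InB K (α b) := by
  unfold InB
  rw [← hS.comm_smul hα, hb]

omit [Finite V] in
theorem AA_vec {α : V ≃ₗ[ZMod p] V} (hα : α ∈ AA G l) (b₀ b₁ : V) : α (vec K b₀ b₁) = vec K (α b₀) (α b₁) := by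
  unfold vec
  rw [map_add, hS.comm_smul hα]

omit [Finite V] in
/-- an element of `AA` which is not trivial moves some `b ∈ B` -/
theorem exists_moved {α : V ≃ₗ[ZMod p] V} (hα : α ∈ AA G l) (h1 : α ≠ 1) : ∃ b : V, InB K b ∧ α b ≠ b := by
  by_contra hcon
  push Not at hcon
  apply h1
  ext v
  rw [← vec_coord (K := K) v, hS.AA_vec hα, hcon _ (inB_e00 v), hcon _ (inB_e01 v)]
  rfl

omit [Finite V] in
theorem rk2_of_moved {α : V ≃ₗ[ZMod p] V} (hα : α ∈ AA G l) {b₀ b : V} (h0 : InB K b₀) (hb : InB K b) (hne : b₀ ≠ 0)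
    (hα0 : α b₀ = b₀) (hαb : α b ≠ b) : Rk2 K (vec K b₀ b) := by
  refine rk2_vec h0 hb fun s t hst => ?_
  have ht : t = 0 := by
    by_contra ht
    apply hαb
    have h1 : b = sc (-(t⁻¹ * s)) b₀ := by
      have h2 := congrArg (sc t⁻¹) hst
      rw [sc_add, sc_sc, sc_sc, inv_mul_cancel₀ ht, sc_one, sc_zero] at h2
      rw [sc_neg]
      exact eq_neg_of_add_eq_zero_right h2
    rw [h1, hS.AA_sc hα, hα0]
  refine ⟨?_, ht⟩
  rw [ht] at hst
  by_contra hs
  apply hne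
  apply sc_inj hs
  rw [sc_zero]
  have h3 : sc (0 : K) b = 0 := by
    unfold sc
    rw [zero_smul, zero_smul]
  rwa [h3, add_zero] at hst

omit [Finite V] in
theorem sg_vec_le {b₀ b : V} (h0 : InB K b₀) (hb : InB K b) : sg (AA G l) (vec K b₀ b) ≤ sg (AA G l) b₀ := by
  rintro α ⟨hα, hα'⟩
  refine ⟨hα, ?_⟩
  rw [hS.AA_vec hα] at hα'
  have h1 : (eu 0 0 : Matrix (Fin 2) (Fin 2) K) • vec K (α b₀) (α b) = (eu 0 0 : Matrix (Fin 2) (Fin 2) K) • vec K b₀ b := by
    rw [hα']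
  rwa [e00_vec (hS.AA_inB hα h0) (hS.AA_inB hα hb), e00_vec h0 hb] at h1

omit [Finite V] in
theorem fix_of_sg_vec {b₀ b : V} (h0 : InB K b₀) (hb : InB K b) {α : V ≃ₗ[ZMod p] V} (hα : α ∈ sg (AA G l) (vec K b₀ b)) :
    α b = b := by
  obtain ⟨hα, hα'⟩ := hα
  rw [hS.AA_vec hα] at hα'
  have h1 : (eu 0 1 : Matrix (Fin 2) (Fin 2) K) • vec K (α b₀) (α b) = (eu 0 1 : Matrix (Fin 2) (Fin 2) K) • vec K b₀ b := by
    rw [hα']
  rwa [e01_vec (hS.AA_inB hα h0) (hS.AA_inB hα hb), e01_vec h0 hb] at h1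

/-- `|K| = p` is impossible -/
theorem card_K (hG : ¬ p ∣ Nat.card G) (hh : Half G h) (h2 : 2 ≤ h) {v : V} (hv : Rk2 K v) : Nat.card K ≠ p := by
  intro hK
  have h1 := (hS.rank_two hG hh (by omega) hv).2 hK
  obtain ⟨g, hg, hg1⟩ : ∃ g ∈ sg (AA G l) v, g ≠ 1 := by
    by_contra hcon
    push Not at hcon
    have : sg (AA G l) v = ⊥ := (Subgroup.eq_bot_iff_forall _).2 hcon
    rw [this, Subgroup.card_bot] at h1
    omega
  have hgA : g ∈ AA G l := hg.1
  set b₀ := (eu 0 0 : Matrix (Fin 2) (Fin 2) K) • v with hb₀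
  have h0 : InB K b₀ := inB_e00 v
  have h0ne : b₀ ≠ 0 := Rk2.e00_ne hv
  have hg0 : g b₀ = b₀ := by rw [hb₀, hS.comm_smul hgA, hg.2]
  obtain ⟨b, hb, hgb⟩ := hS.exists_moved hgA hg1
  have hv1 := hS.rk2_of_moved hgA h0 hb h0ne hg0 hgb
  have h3 := (hS.rank_two hG hh (by omega) hv1).2 hK
  have h4 : sg (AA G l) (vec K b₀ b) = sg G b₀ := by
    refine Subgroup.eq_of_le_of_card_ge ((hS.sg_vec_le h0 hb).trans (sg_mono AA_le _)) ?_
    rw [card_sg hh h0ne, ← h3]
  have h5 : g ∈ sg (AA G l) (vec K b₀ b) := by rw [h4]; exact ⟨AA_le hgA, hg0⟩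
  exact hgb (hS.fix_of_sg_vec h0 hb h5)

/-- **`h = 2`** -/
theorem h_eq_two (hG : ¬ p ∣ Nat.card G) (hh : Half G h) (h2 : 2 ≤ h) {v : V} (hv : Rk2 K v) : h = 2 := by
  by_contra hne
  have hk : ∀ {w : V}, Rk2 K w → h ≤ 2 * Nat.card (sg (AA G l) w) := fun hw => by
    rcases (hS.rank_two hG hh (by omega) hw).1 with h1 | h1 <;> omega
  have hex : ∀ {w : V}, Rk2 K w → ∃ g ∈ sg (AA G l) w, g ≠ 1 := by
    intro w hw
    by_contra hcon
    push Not at hcon
    have h1 : sg (AA G l) w = ⊥ := (Subgroup.eq_bot_iff_forall _).2 hcon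
    have h3 := hk hw
    rw [h1, Subgroup.card_bot] at h3
    omega
  obtain ⟨g, hg, hg1⟩ := hex hv
  have hgA : g ∈ AA G l := hg.1
  set b₀ := (eu 0 0 : Matrix (Fin 2) (Fin 2) K) • v with hb₀
  have h0 : InB K b₀ := inB_e00 v
  have h0ne : b₀ ≠ 0 := Rk2.e00_ne hv
  have hg0 : g b₀ = b₀ := by rw [hb₀, hS.comm_smul hgA, hg.2]
  obtain ⟨b, hb, hgb⟩ := hS.exists_moved hgA hg1
  have hv1 := hS.rk2_of_moved hgA h0 hb h0ne hg0 hgb
  obtain ⟨g', hg', hg'1⟩ := hex hv1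
  have hg'A : g' ∈ AA G l := hg'.1
  have hg'0 : g' b₀ = b₀ := (hS.sg_vec_le h0 hb hg').2
  have hg'b : g' b = b := hS.fix_of_sg_vec h0 hb hg'
  obtain ⟨b', hb', hg'b'⟩ := hS.exists_moved hg'A hg'1
  -- index at most two
  have index : ∀ c : V, InB K c → ∀ x ∈ sg (AA G l) b₀, ∀ y ∈ sg (AA G l) b₀, x c ≠ c → y c ≠ c → (x * y) c = c := by
    intro c hc x hx y hy hxc hyc
    have hr := hS.rk2_of_moved hx.1 h0 hc h0ne hx.2 hxc
    have h3 := hk hr
    have h4 : Nat.card (sg (AA G l) b₀) ≤ h := by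
      rw [← card_sg hh h0ne]
      exact Subgroup.card_le_of_le (sg_mono AA_le _)
    have hle := hS.sg_vec_le (G := G) h0 hc
    have h5 := Subgroup.card_mul_index ((sg (AA G l) (vec K b₀ c)).subgroupOf (sg (AA G l) b₀))
    rw [Nat.card_congr (Subgroup.subgroupOfEquivOfLe hle).toEquiv] at h5
    have hxn : x ∉ sg (AA G l) (vec K b₀ c) := fun hh => hxc (hS.fix_of_sg_vec h0 hc hh)
    have hyn : y ∉ sg (AA G l) (vec K b₀ c) := fun hh => hyc (hS.fix_of_sg_vec h0 hc hh)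
    have hpos : 0 < Nat.card (sg (AA G l) (vec K b₀ c)) := Nat.card_pos
    set ix := ((sg (AA G l) (vec K b₀ c)).subgroupOf (sg (AA G l) b₀)).index with hix
    have h6 : ix ≤ 2 := by
      by_contra hlt
      have : Nat.card (sg (AA G l) (vec K b₀ c)) * 3 ≤ Nat.card (sg (AA G l) (vec K b₀ c)) * ix :=
        Nat.mul_le_mul_left _ (by omega)
      omega
    have h7 : ix ≠ 0 := by
      intro h8
      rw [h8, mul_zero] at h5
      have : 0 < Nat.card (sg (AA G l) b₀) := Nat.card_pos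
      omega
    have h8 : ix ≠ 1 := by
      intro h8
      rw [hix, Subgroup.index_eq_one, Subgroup.subgroupOf_eq_top] at h8
      exact hxn (h8 hx)
    have h9 : ix = 2 := by omega
    have h10 := (Subgroup.mul_mem_iff_of_index_two (H := (sg (AA G l) (vec K b₀ c)).subgroupOf (sg (AA G l) b₀)) h9
      (a := ⟨x, hx⟩) (b := ⟨y, hy⟩))
    have h11 : (⟨x, hx⟩ : sg (AA G l) b₀) * ⟨y, hy⟩ ∈ (sg (AA G l) (vec K b₀ c)).subgroupOf (sg (AA G l) b₀) := by
      rw [h10]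
      exact iff_of_false hxn hyn
    exact hS.fix_of_sg_vec h0 hc h11
  -- `b` is moved by `g` and by `g g'`, fixed by `g'`; `b'` is moved by `g'`
  have hgX : g ∈ sg (AA G l) b₀ := ⟨hgA, hg0⟩
  have hg'X : g' ∈ sg (AA G l) b₀ := ⟨hg'A, hg'0⟩
  have hInB : ∀ c : K, InB K (b + sc c b') := by
    intro c
    unfold InB
    rw [smul_add, hb]
    congr 1
    unfold sc
    rw [← mul_smul, mul_smul_comm, mul_one]
    have : (c • (1 : Matrix (Fin 2) (Fin 2) K)) • b' = (c • (1 : Matrix (Fin 2) (Fin 2) K)) • (eu 0 0 : Matrix (Fin 2) (Fin 2) K) • b' := by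
      rw [hb']
    rw [this, ← mul_smul, smul_mul_assoc, one_mul]
  have hg'c : ∀ c : K, c ≠ 0 → g' (b + sc c b') ≠ b + sc c b' := by
    intro c hc h3
    rw [map_add, hg'b, hS.AA_sc hg'A] at h3
    exact hg'b' (sc_inj hc (add_left_cancel h3))
  have hor : ∀ c : K, c ≠ 0 → g (b + sc c b') = b + sc c b' ∨ (g * g') (b + sc c b') = b + sc c b' := by
    intro c hc
    by_cases h3 : g (b + sc c b') = b + sc c b'
    · left; exact h3
    · right; exact index _ (hInB c) g hgX g' hg'X h3 (hg'c c hc)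
  have two_pts : ∀ x ∈ AA G l, ∀ c c' : K, c ≠ c' → x (b + sc c b') = b + sc c b' → x (b + sc c' b') = b + sc c' b' →
      x b = b := by
    intro x hx c c' hcc h3 h4
    rw [map_add, hS.AA_sc hx] at h3 h4
    have h5 : sc (c - c') (x b') = sc (c - c') b' := by
      rw [sub_eq_add_neg, add_sc, add_sc, sc_neg, sc_neg]
      have h6 : x b = b + sc c b' - sc c (x b') := eq_sub_of_add_eq h3
      rw [h6] at h4
      have h7 : sc c b' - sc c (x b') + sc c' (x b') = sc c' b' := by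
        have : b + (sc c b' - sc c (x b') + sc c' (x b')) = b + sc c' b' := by rw [← h4]; abel
        exact add_left_cancel this
      rw [← h7]; abel
    have h6 : x b' = b' := sc_inj (sub_ne_zero.2 hcc) h5
    rw [h6] at h3
    exact add_right_cancel h3
  have hgg' : g * g' ∈ AA G l := mul_mem hgA hg'A
  have hggb : (g * g') b ≠ b := by
    rw [LinearEquiv.mul_apply, hg'b]; exact hgb
  have hcast : ∀ a b : ℕ, a < 7 → b < 7 → a ≠ b → (a : K) ≠ b := by
    intro a b ha hb hab h3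
    have := hS.char
    have h7 := hS.p7
    rw [CharP.cast_eq_iff_mod_eq K p, Nat.mod_eq_of_lt (by omega), Nat.mod_eq_of_lt (by omega)] at h3
    exact hab h3
  have c1 : ((1 : ℕ) : K) ≠ 0 := by exact_mod_cast hcast 1 0 (by norm_num) (by norm_num) (by norm_num)
  have c2 : ((2 : ℕ) : K) ≠ 0 := by exact_mod_cast hcast 2 0 (by norm_num) (by norm_num) (by norm_num)
  have c3 : ((3 : ℕ) : K) ≠ 0 := by exact_mod_cast hcast 3 0 (by norm_num) (by norm_num) (by norm_num)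
  have d12 := hcast 1 2 (by norm_num) (by norm_num) (by norm_num)
  have d13 := hcast 1 3 (by norm_num) (by norm_num) (by norm_num)
  have d23 := hcast 2 3 (by norm_num) (by norm_num) (by norm_num)
  rcases hor _ c1 with e1 | e1 <;> rcases hor _ c2 with e2 | e2 <;> rcases hor _ c3 with e3 | e3
  · exact hgb (two_pts g hgA _ _ d12 e1 e2)
  · exact hgb (two_pts g hgA _ _ d12 e1 e2)
  · exact hgb (two_pts g hgA _ _ d13 e1 e3)
  · exact hggb (two_pts _ hgg' _ _ d23 e2 e3)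
  · exact hgb (two_pts g hgA _ _ d23 e2 e3)
  · exact hggb (two_pts _ hgg' _ _ d13 e1 e3)
  · exact hggb (two_pts _ hgg' _ _ d12 e1 e2)
  · exact hggb (two_pts _ hgg' _ _ d12 e1 e2)

end SetupQ

end setup

end Cfsg.Agent.H312.HT
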